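import Cfsg.Agent.Spor.Fi3510.D0

set_option autoImplicit false
set_option maxRecDepth 100000000
set_option Elab.async false

namespace Cfsg.Agent.Spor.Fi3510

theorem ok0 : Net.okb 12 n0 = true := by decide +kernel

theorem ok1 : Net.okb 12 n1 = true := by decide +kernel

theorem ok2 : Net.okb 12 n2 = true := by decide +kernel

theorem ok3 : Net.okb 12 n3 = true := by decide +kernel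

theorem ok4 : Net.okb 12 n4 = true := by decide +kernel

theorem ok5 : Net.okb 12 n5 = true := by decide +kernel

theorem ok6 : Net.okb 12 n6 = true := by decide +kernel

theorem ok7 : Net.okb 12 n7 = true := by decide +kernel

theorem ok8 : Net.okb 12 n8 = true := by decide +kernel

theorem ok9 : Net.okb 12 n9 = true := by decide +kernel

theorem ok10 : Net.okb 12 n10 = true := by decide +kernel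

theorem rel0 : T.rel 12 [1, 1] 0 12 = true := by decide +kernel

theorem rel1 : T.rel 12 [2, 2] 0 12 = true := by decide +kernel

theorem rel2 : T.rel 12 [3, 3] 0 12 = true := by decide +kernel

theorem rel3 : T.rel 12 [4, 4] 0 12 = true := by decide +kernel

theorem rel4 : T.rel 12 [5, 5] 0 12 = true := by decide +kernel

theorem rel5 : T.rel 12 [6, 6] 0 12 = true := by decide +kernel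

theorem rel6 : T.rel 12 [7, 7] 0 12 = true := by decide +kernel

theorem rel7 : T.rel 12 [8, 8] 0 12 = true := by decide +kernel

theorem rel8 : T.rel 12 [9, 9] 0 12 = true := by decide +kernel

theorem rel9 : T.rel 12 [10, 1, 2, 3, 4, 5, 8] 0 12 = true := by decide +kernel

theorem rel10 : T.rel 12 [12, 11, 11, 11, 11, 11] 0 12 = true := by decide +kernel

theorem rel11 : T.rel 12 [2, 1, 2, 1, 2, 1] 0 12 = true := by decide +kernel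

theorem rel12 : T.rel 12 [3, 1, 3, 1] 0 12 = true := by decide +kernel

theorem rel13 : T.rel 12 [4, 1, 4, 1] 0 12 = true := by decide +kernel

theorem rel14 : T.rel 12 [5, 1, 5, 1] 0 12 = true := by decide +kernel

theorem rel15 : T.rel 12 [6, 1, 6, 1] 0 12 = true := by decide +kernel

theorem rel16 : T.rel 12 [7, 1, 7, 1] 0 12 = true := by decide +kernel

theorem rel17 : T.rel 12 [8, 1, 8, 1] 0 12 = true := by decide +kernel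

theorem rel18 : T.rel 12 [9, 1, 9, 1] 0 12 = true := by decide +kernel

theorem rel19 : T.rel 12 [3, 2, 3, 2, 3, 2] 0 12 = true := by decide +kernel

theorem rel20 : T.rel 12 [4, 2, 4, 2] 0 12 = true := by decide +kernel

theorem rel21 : T.rel 12 [5, 2, 5, 2] 0 12 = true := by decide +kernel

theorem rel22 : T.rel 12 [6, 2, 6, 2] 0 12 = true := by decide +kernel

theorem rel23 : T.rel 12 [7, 2, 7, 2] 0 12 = true := by decide +kernel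

theorem rel24 : T.rel 12 [8, 2, 8, 2] 0 12 = true := by decide +kernel

theorem rel25 : T.rel 12 [9, 2, 9, 2] 0 12 = true := by decide +kernel

theorem rel26 : T.rel 12 [4, 3, 4, 3, 4, 3] 0 12 = true := by decide +kernel

theorem rel27 : T.rel 12 [5, 3, 5, 3] 0 12 = true := by decide +kernel

theorem rel28 : T.rel 12 [6, 3, 6, 3] 0 12 = true := by decide +kernel

theorem rel29 : T.rel 12 [7, 3, 7, 3] 0 12 = true := by decide +kernel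

theorem rel30 : T.rel 12 [8, 3, 8, 3] 0 12 = true := by decide +kernel

theorem rel31 : T.rel 12 [9, 3, 9, 3] 0 12 = true := by decide +kernel

theorem rel32 : T.rel 12 [5, 4, 5, 4, 5, 4] 0 12 = true := by decide +kernel

theorem rel33 : T.rel 12 [6, 4, 6, 4] 0 12 = true := by decide +kernel

theorem rel34 : T.rel 12 [7, 4, 7, 4] 0 12 = true := by decide +kernel

theorem rel35 : T.rel 12 [8, 4, 8, 4, 8, 4] 0 12 = true := by decide +kernel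

theorem rel36 : T.rel 12 [9, 4, 9, 4] 0 12 = true := by decide +kernel

theorem rel37 : T.rel 12 [6, 5, 6, 5, 6, 5] 0 12 = true := by decide +kernel

theorem rel38 : T.rel 12 [7, 5, 7, 5] 0 12 = true := by decide +kernel

theorem rel39 : T.rel 12 [8, 5, 8, 5] 0 12 = true := by decide +kernel

theorem rel40 : T.rel 12 [9, 5, 9, 5] 0 12 = true := by decide +kernel

theorem rel41 : T.rel 12 [7, 6, 7, 6, 7, 6] 0 12 = true := by decide +kernel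

theorem rel42 : T.rel 12 [8, 6, 8, 6] 0 12 = true := by decide +kernel

theorem rel43 : T.rel 12 [9, 6, 9, 6] 0 12 = true := by decide +kernel

theorem rel44 : T.rel 12 [8, 7, 8, 7] 0 12 = true := by decide +kernel

theorem rel45 : T.rel 12 [9, 7, 9, 7] 0 12 = true := by decide +kernel

theorem rel46 : T.rel 12 [9, 8, 9, 8, 9, 8] 0 12 = true := by decide +kernel

theorem rel47 : T.rel 12 [9, 8, 4, 6, 5, 4, 2, 3, 4, 9, 8, 4, 6, 5, 4, 2, 3, 4, 9, 8, 4, 6, 5, 4, 2, 3, 4, 9, 8, 4, 6, 5, 4, 2, 3, 4, 9, 8, 4, 6, 5, 4, 2, 3, 4, 9, 8, 4, 6, 5, 4, 2, 3, 4, 9, 8, 4, 6, 5, 4, 2, 3, 4, 9, 8, 4, 6, 5, 4, 2, 3, 4, 9, 8, 4, 6, 5, 4, 2, 3, 4, 9, 8, 4, 6, 5, 4, 2, 3, 4] 0 12 = true := by decide +kernel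

theorem rel48 : T.rel 12 [8, 6, 5, 4, 3, 2, 1, 8, 6, 5, 4, 3, 2, 1, 8, 6, 5, 4, 3, 2, 1, 8, 6, 5, 4, 3, 2, 1, 8, 6, 5, 4, 3, 2, 1, 8, 6, 5, 4, 3, 2, 1, 8, 6, 5, 4, 3, 2, 1, 8, 6, 5, 4, 3, 2, 1, 8, 6, 5, 4, 3, 2, 1] 0 12 = true := by decide +kernel

theorem rel49 : T.rel 12 [8, 7, 6, 5, 4, 3, 2, 8, 7, 6, 5, 4, 3, 2, 8, 7, 6, 5, 4, 3, 2, 8, 7, 6, 5, 4, 3, 2, 8, 7, 6, 5, 4, 3, 2, 8, 7, 6, 5, 4, 3, 2, 8, 7, 6, 5, 4, 3, 2, 8, 7, 6, 5, 4, 3, 2, 8, 7, 6, 5, 4, 3, 2] 0 12 = true := by decide +kernel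

theorem hcov : T.treeCov (ones 3510) L 1 = true := by decide +kernel

theorem hg : lall (fun z => band (memL L z) (band (sub (ones 3510) (T.let z).cl) (T.closed (ones 3510) z))) gs = true := by decide +kernel

theorem rot1_1 : T.rot 1 [1] (sel (ones 3510) ip1 1) = true := by decide +kernel

theorem rot1_1r : band (Rule.ok (2 * 9) EX RL ⟨1 :: [1], [], 39, false⟩) (lall (memL L) [1]) = true := by decide +kernel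

theorem rot1_2 : T.rot 1 [3, 1, 3] (sel (ones 3510) ip1 2) = true := by decide +kernel

theorem rot1_2r : band (Rule.ok (2 * 9) EX RL ⟨1 :: [3, 1, 3], [], 1, false⟩) (lall (memL L) [3, 1, 3]) = true := by decide +kernel

theorem rot1_3 : T.rot 1 [4, 1, 4] (sel (ones 3510) ip1 3) = true := by decide +kernel

theorem rot1_3r : band (Rule.ok (2 * 9) EX RL ⟨1 :: [4, 1, 4], [], 2, false⟩) (lall (memL L) [4, 1, 4]) = true := by decide +kernel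

theorem rot1_4 : T.rot 1 [5, 1, 5] (sel (ones 3510) ip1 4) = true := by decide +kernel

theorem rot1_4r : band (Rule.ok (2 * 9) EX RL ⟨1 :: [5, 1, 5], [], 3, false⟩) (lall (memL L) [5, 1, 5]) = true := by decide +kernel

theorem rot1_5 : T.rot 1 [6, 1, 6] (sel (ones 3510) ip1 5) = true := by decide +kernel

theorem rot1_5r : band (Rule.ok (2 * 9) EX RL ⟨1 :: [6, 1, 6], [], 4, false⟩) (lall (memL L) [6, 1, 6]) = true := by decide +kernel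

theorem rot1_6 : T.rot 1 [7, 1, 7] (sel (ones 3510) ip1 6) = true := by decide +kernel

theorem rot1_6r : band (Rule.ok (2 * 9) EX RL ⟨1 :: [7, 1, 7], [], 5, false⟩) (lall (memL L) [7, 1, 7]) = true := by decide +kernel

theorem rot1_7 : T.rot 1 [8, 1, 8] (sel (ones 3510) ip1 7) = true := by decide +kernel

theorem rot1_7r : band (Rule.ok (2 * 9) EX RL ⟨1 :: [8, 1, 8], [], 6, false⟩) (lall (memL L) [8, 1, 8]) = true := by decide +kernel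

theorem rot1_8 : T.rot 1 [9, 1, 9] (sel (ones 3510) ip1 8) = true := by decide +kernel

theorem rot1_8r : band (Rule.ok (2 * 9) EX RL ⟨1 :: [9, 1, 9], [], 7, false⟩) (lall (memL L) [9, 1, 9]) = true := by decide +kernel

theorem rot1_9 : T.rot 1 [2, 1, 2, 1, 2] (sel (ones 3510) ip1 9) = true := by decide +kernel

theorem rot1_9r : band (Rule.ok (2 * 9) EX RL ⟨1 :: [2, 1, 2, 1, 2], [], 0, false⟩) (lall (memL L) [2, 1, 2, 1, 2]) = true := by decide +kernel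

theorem rot1_10 : T.rot 1 [8, 6, 5, 4, 3, 2, 1, 8, 6, 5, 4, 3, 2, 1, 8, 6, 5, 4, 3, 2, 1, 8, 6, 5, 4, 3, 2, 1, 8, 6, 5, 4, 3, 2, 1, 8, 6, 5, 4, 3, 2, 1, 8, 6, 5, 4, 3, 2, 1, 8, 6, 5, 4, 3, 2, 1, 8, 6, 5, 4, 3, 2] (sel (ones 3510) ip1 10) = true := by decide +kernel

theorem rot1_10r : band (Rule.ok (2 * 9) EX RL ⟨1 :: [8, 6, 5, 4, 3, 2, 1, 8, 6, 5, 4, 3, 2, 1, 8, 6, 5, 4, 3, 2, 1, 8, 6, 5, 4, 3, 2, 1, 8, 6, 5, 4, 3, 2, 1, 8, 6, 5, 4, 3, 2, 1, 8, 6, 5, 4, 3, 2, 1, 8, 6, 5, 4, 3, 2, 1, 8, 6, 5, 4, 3, 2], [0], 37, true⟩) (lall (memL L) [8, 6, 5, 4, 3, 2, 1, 8, 6, 5, 4, 3, 2, 1, 8, 6, 5, 4, 3, 2, 1, 8, 6, 5, 4, 3, 2, 1, 8, 6, 5, 4, 3, 2, 1, 8, 6, 5, 4, 3, 2, 1, 8, 6, 5, 4, 3, 2, 1, 8, 6, 5, 4, 3, 2, 1, 8, 6, 5, 4, 3, 2]) = true := by decide +kernel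

theorem rot1_11 : T.rot 1 [2, 3, 4, 5, 6, 8, 1, 2, 3, 4, 5, 6, 8, 1, 2, 3, 4, 5, 6, 8, 1, 2, 3, 4, 5, 6, 8, 1, 2, 3, 4, 5, 6, 8, 1, 2, 3, 4, 5, 6, 8, 1, 2, 3, 4, 5, 6, 8, 1, 2, 3, 4, 5, 6, 8, 1, 2, 3, 4, 5, 6, 8] (sel (ones 3510) ip1 11) = true := by decide +kernel

theorem rot1_11r : band (Rule.ok (2 * 9) EX RL ⟨1 :: [2, 3, 4, 5, 6, 8, 1, 2, 3, 4, 5, 6, 8, 1, 2, 3, 4, 5, 6, 8, 1, 2, 3, 4, 5, 6, 8, 1, 2, 3, 4, 5, 6, 8, 1, 2, 3, 4, 5, 6, 8, 1, 2, 3, 4, 5, 6, 8, 1, 2, 3, 4, 5, 6, 8, 1, 2, 3, 4, 5, 6, 8], [], 37, false⟩) (lall (memL L) [2, 3, 4, 5, 6, 8, 1, 2, 3, 4, 5, 6, 8, 1, 2, 3, 4, 5, 6, 8, 1, 2, 3, 4, 5, 6, 8, 1, 2, 3, 4, 5, 6, 8, 1, 2, 3, 4, 5, 6, 8, 1, 2, 3, 4, 5, 6, 8, 1, 2, 3, 4, 5, 6, 8, 1, 2, 3, 4, 5, 6, 8]) = true := by decide +kernel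

theorem cov1 : T.cover 1 [(sel (ones 3510) ip1 1), (sel (ones 3510) ip1 2), (sel (ones 3510) ip1 3), (sel (ones 3510) ip1 4), (sel (ones 3510) ip1 5), (sel (ones 3510) ip1 6), (sel (ones 3510) ip1 7), (sel (ones 3510) ip1 8), (sel (ones 3510) ip1 9), (sel (ones 3510) ip1 10), (sel (ones 3510) ip1 11), 1] = true := by decide +kernel

theorem tl1 : T.treeLt 12 1 = true := by decide +kernel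

theorem rot2_1 : T.rot 2 [2] (sel (ones 3510) ip2 1) = true := by decide +kernel

theorem rot2_1r : band (Rule.ok (2 * 9) EX RL ⟨2 :: [2], [], 39, false⟩) (lall (memL L) [2]) = true := by decide +kernel

theorem rot2_2 : T.rot 2 [4, 2, 4] (sel (ones 3510) ip2 2) = true := by decide +kernel

theorem rot2_2r : band (Rule.ok (2 * 9) EX RL ⟨2 :: [4, 2, 4], [], 9, false⟩) (lall (memL L) [4, 2, 4]) = true := by decide +kernel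

theorem rot2_3 : T.rot 2 [5, 2, 5] (sel (ones 3510) ip2 3) = true := by decide +kernel

theorem rot2_3r : band (Rule.ok (2 * 9) EX RL ⟨2 :: [5, 2, 5], [], 10, false⟩) (lall (memL L) [5, 2, 5]) = true := by decide +kernel

theorem rot2_4 : T.rot 2 [6, 2, 6] (sel (ones 3510) ip2 4) = true := by decide +kernel

theorem rot2_4r : band (Rule.ok (2 * 9) EX RL ⟨2 :: [6, 2, 6], [], 11, false⟩) (lall (memL L) [6, 2, 6]) = true := by decide +kernel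

theorem rot2_5 : T.rot 2 [7, 2, 7] (sel (ones 3510) ip2 5) = true := by decide +kernel

theorem rot2_5r : band (Rule.ok (2 * 9) EX RL ⟨2 :: [7, 2, 7], [], 12, false⟩) (lall (memL L) [7, 2, 7]) = true := by decide +kernel

theorem rot2_6 : T.rot 2 [8, 2, 8] (sel (ones 3510) ip2 6) = true := by decide +kernel

theorem rot2_6r : band (Rule.ok (2 * 9) EX RL ⟨2 :: [8, 2, 8], [], 13, false⟩) (lall (memL L) [8, 2, 8]) = true := by decide +kernel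

theorem rot2_7 : T.rot 2 [9, 2, 9] (sel (ones 3510) ip2 7) = true := by decide +kernel

theorem rot2_7r : band (Rule.ok (2 * 9) EX RL ⟨2 :: [9, 2, 9], [], 14, false⟩) (lall (memL L) [9, 2, 9]) = true := by decide +kernel

theorem rot2_8 : T.rot 2 [1, 2, 1, 2, 1] (sel (ones 3510) ip2 8) = true := by decide +kernel

theorem rot2_8r : band (Rule.ok (2 * 9) EX RL ⟨2 :: [1, 2, 1, 2, 1], [], 0, true⟩) (lall (memL L) [1, 2, 1, 2, 1]) = true := by decide +kernel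

theorem rot2_9 : T.rot 2 [3, 2, 3, 2, 3] (sel (ones 3510) ip2 9) = true := by decide +kernel

theorem rot2_9r : band (Rule.ok (2 * 9) EX RL ⟨2 :: [3, 2, 3, 2, 3], [], 8, false⟩) (lall (memL L) [3, 2, 3, 2, 3]) = true := by decide +kernel

theorem rot2_10 : T.rot 2 [1, 8, 6, 5, 4, 3, 2, 1, 8, 6, 5, 4, 3, 2, 1, 8, 6, 5, 4, 3, 2, 1, 8, 6, 5, 4, 3, 2, 1, 8, 6, 5, 4, 3, 2, 1, 8, 6, 5, 4, 3, 2, 1, 8, 6, 5, 4, 3, 2, 1, 8, 6, 5, 4, 3, 2, 1, 8, 6, 5, 4, 3] (sel (ones 3510) ip2 10) = true := by decide +kernel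

theorem rot2_10r : band (Rule.ok (2 * 9) EX RL ⟨2 :: [1, 8, 6, 5, 4, 3, 2, 1, 8, 6, 5, 4, 3, 2, 1, 8, 6, 5, 4, 3, 2, 1, 8, 6, 5, 4, 3, 2, 1, 8, 6, 5, 4, 3, 2, 1, 8, 6, 5, 4, 3, 2, 1, 8, 6, 5, 4, 3, 2, 1, 8, 6, 5, 4, 3, 2, 1, 8, 6, 5, 4, 3], [0, 2], 37, true⟩) (lall (memL L) [1, 8, 6, 5, 4, 3, 2, 1, 8, 6, 5, 4, 3, 2, 1, 8, 6, 5, 4, 3, 2, 1, 8, 6, 5, 4, 3, 2, 1, 8, 6, 5, 4, 3, 2, 1, 8, 6, 5, 4, 3, 2, 1, 8, 6, 5, 4, 3, 2, 1, 8, 6, 5, 4, 3, 2, 1, 8, 6, 5, 4, 3]) = true := by decide +kernel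

theorem rot2_11 : T.rot 2 [3, 4, 5, 6, 8, 1, 2, 3, 4, 5, 6, 8, 1, 2, 3, 4, 5, 6, 8, 1, 2, 3, 4, 5, 6, 8, 1, 2, 3, 4, 5, 6, 8, 1, 2, 3, 4, 5, 6, 8, 1, 2, 3, 4, 5, 6, 8, 1, 2, 3, 4, 5, 6, 8, 1, 2, 3, 4, 5, 6, 8, 1] (sel (ones 3510) ip2 11) = true := by decide +kernel

theorem rot2_11r : band (Rule.ok (2 * 9) EX RL ⟨2 :: [3, 4, 5, 6, 8, 1, 2, 3, 4, 5, 6, 8, 1, 2, 3, 4, 5, 6, 8, 1, 2, 3, 4, 5, 6, 8, 1, 2, 3, 4, 5, 6, 8, 1, 2, 3, 4, 5, 6, 8, 1, 2, 3, 4, 5, 6, 8, 1, 2, 3, 4, 5, 6, 8, 1, 2, 3, 4, 5, 6, 8, 1], [0], 37, false⟩) (lall (memL L) [3, 4, 5, 6, 8, 1, 2, 3, 4, 5, 6, 8, 1, 2, 3, 4, 5, 6, 8, 1, 2, 3, 4, 5, 6, 8, 1, 2, 3, 4, 5, 6, 8, 1, 2, 3, 4, 5, 6, 8, 1, 2, 3, 4, 5, 6, 8, 1, 2, 3, 4, 5, 6, 8, 1, 2, 3, 4, 5, 6, 8, 1]) = true := by decide +kernel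

theorem rot2_12 : T.rot 2 [8, 7, 6, 5, 4, 3, 2, 8, 7, 6, 5, 4, 3, 2, 8, 7, 6, 5, 4, 3, 2, 8, 7, 6, 5, 4, 3, 2, 8, 7, 6, 5, 4, 3, 2, 8, 7, 6, 5, 4, 3, 2, 8, 7, 6, 5, 4, 3, 2, 8, 7, 6, 5, 4, 3, 2, 8, 7, 6, 5, 4, 3] (sel (ones 3510) ip2 12) = true := by decide +kernel

theorem rot2_12r : band (Rule.ok (2 * 9) EX RL ⟨2 :: [8, 7, 6, 5, 4, 3, 2, 8, 7, 6, 5, 4, 3, 2, 8, 7, 6, 5, 4, 3, 2, 8, 7, 6, 5, 4, 3, 2, 8, 7, 6, 5, 4, 3, 2, 8, 7, 6, 5, 4, 3, 2, 8, 7, 6, 5, 4, 3, 2, 8, 7, 6, 5, 4, 3, 2, 8, 7, 6, 5, 4, 3], [2], 38, true⟩) (lall (memL L) [8, 7, 6, 5, 4, 3, 2, 8, 7, 6, 5, 4, 3, 2, 8, 7, 6, 5, 4, 3, 2, 8, 7, 6, 5, 4, 3, 2, 8, 7, 6, 5, 4, 3, 2, 8, 7, 6, 5, 4, 3, 2, 8, 7, 6, 5, 4, 3, 2, 8, 7, 6, 5, 4, 3, 2, 8, 7, 6, 5, 4, 3]) = true := by decide +kernel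

theorem rot2_13 : T.rot 2 [3, 4, 5, 6, 7, 8, 2, 3, 4, 5, 6, 7, 8, 2, 3, 4, 5, 6, 7, 8, 2, 3, 4, 5, 6, 7, 8, 2, 3, 4, 5, 6, 7, 8, 2, 3, 4, 5, 6, 7, 8, 2, 3, 4, 5, 6, 7, 8, 2, 3, 4, 5, 6, 7, 8, 2, 3, 4, 5, 6, 7, 8] (sel (ones 3510) ip2 13) = true := by decide +kernel

theorem rot2_13r : band (Rule.ok (2 * 9) EX RL ⟨2 :: [3, 4, 5, 6, 7, 8, 2, 3, 4, 5, 6, 7, 8, 2, 3, 4, 5, 6, 7, 8, 2, 3, 4, 5, 6, 7, 8, 2, 3, 4, 5, 6, 7, 8, 2, 3, 4, 5, 6, 7, 8, 2, 3, 4, 5, 6, 7, 8, 2, 3, 4, 5, 6, 7, 8, 2, 3, 4, 5, 6, 7, 8], [], 38, false⟩) (lall (memL L) [3, 4, 5, 6, 7, 8, 2, 3, 4, 5, 6, 7, 8, 2, 3, 4, 5, 6, 7, 8, 2, 3, 4, 5, 6, 7, 8, 2, 3, 4, 5, 6, 7, 8, 2, 3, 4, 5, 6, 7, 8, 2, 3, 4, 5, 6, 7, 8, 2, 3, 4, 5, 6, 7, 8, 2, 3, 4, 5, 6, 7, 8]) = true := by decide +kernel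

theorem rot2_14 : T.rot 2 [3, 4, 9, 8, 4, 6, 5, 4, 2, 3, 4, 9, 8, 4, 6, 5, 4, 2, 3, 4, 9, 8, 4, 6, 5, 4, 2, 3, 4, 9, 8, 4, 6, 5, 4, 2, 3, 4, 9, 8, 4, 6, 5, 4, 2, 3, 4, 9, 8, 4, 6, 5, 4, 2, 3, 4, 9, 8, 4, 6, 5, 4, 2, 3, 4, 9, 8, 4, 6, 5, 4, 2, 3, 4, 9, 8, 4, 6, 5, 4, 2, 3, 4, 9, 8, 4, 6, 5, 4] (sel (ones 3510) ip2 14) = true := by decide +kernel

theorem rot2_14r : band (Rule.ok (2 * 9) EX RL ⟨2 :: [3, 4, 9, 8, 4, 6, 5, 4, 2, 3, 4, 9, 8, 4, 6, 5, 4, 2, 3, 4, 9, 8, 4, 6, 5, 4, 2, 3, 4, 9, 8, 4, 6, 5, 4, 2, 3, 4, 9, 8, 4, 6, 5, 4, 2, 3, 4, 9, 8, 4, 6, 5, 4, 2, 3, 4, 9, 8, 4, 6, 5, 4, 2, 3, 4, 9, 8, 4, 6, 5, 4, 2, 3, 4, 9, 8, 4, 6, 5, 4, 2, 3, 4, 9, 8, 4, 6, 5, 4], [6, 4, 2], 36, true⟩) (lall (memL L) [3, 4, 9, 8, 4, 6, 5, 4, 2, 3, 4, 9, 8, 4, 6, 5, 4, 2, 3, 4,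 9, 8, 4, 6, 5, 4, 2, 3, 4, 9, 8, 4, 6, 5, 4, 2, 3, 4, 9, 8, 4, 6, 5, 4, 2, 3, 4, 9, 8, 4, 6, 5, 4, 2, 3, 4, 9, 8, 4, 6, 5, 4, 2, 3, 4, 9, 8, 4, 6, 5, 4, 2, 3, 4, 9, 8, 4, 6, 5, 4, 2, 3, 4, 9, 8, 4, 6, 5, 4]) = true := by decide +kernel

theorem rot2_15 : T.rot 2 [4, 5, 6, 4, 8, 9, 4, 3, 2, 4, 5, 6, 4, 8, 9, 4, 3, 2, 4, 5, 6, 4, 8, 9, 4, 3, 2, 4, 5, 6, 4, 8, 9, 4, 3, 2, 4, 5, 6, 4, 8, 9, 4, 3, 2, 4, 5, 6, 4, 8, 9, 4, 3, 2, 4, 5, 6, 4, 8, 9, 4, 3, 2, 4, 5, 6, 4, 8, 9, 4, 3, 2, 4, 5, 6, 4, 8, 9, 4, 3, 2, 4, 5, 6, 4, 8, 9, 4, 3] (sel (ones 3510) ip2 15) = true := by decide +kernel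

theorem rot2_15r : band (Rule.ok (2 * 9) EX RL ⟨2 :: [4, 5, 6, 4, 8, 9, 4, 3, 2, 4, 5, 6, 4, 8, 9, 4, 3, 2, 4, 5, 6, 4, 8, 9, 4, 3, 2, 4, 5, 6, 4, 8, 9, 4, 3, 2, 4, 5, 6, 4, 8, 9, 4, 3, 2, 4, 5, 6, 4, 8, 9, 4, 3, 2, 4, 5, 6, 4, 8, 9, 4, 3, 2, 4, 5, 6, 4, 8, 9, 4, 3, 2, 4, 5, 6, 4, 8, 9, 4, 3, 2, 4, 5, 6, 4, 8, 9, 4, 3], [6, 4], 36, false⟩) (lall (memL L) [4, 5, 6, 4, 8, 9, 4, 3, 2, 4, 5, 6, 4, 8, 9, 4, 3, 2, 4, 5, 6, 4, 8, 9, 4, 3, 2, 4, 5, 6, 4, 8, 9, 4, 3, 2, 4, 5, 6, 4, 8, 9, 4, 3, 2, 4, 5, 6, 4, 8, 9, 4, 3, 2, 4, 5, 6, 4, 8, 9, 4, 3, 2, 4, 5, 6, 4, 8, 9, 4, 3, 2, 4, 5, 6, 4, 8, 9, 4, 3, 2, 4, 5, 6, 4, 8, 9, 4, 3]) = true := by decide +kernel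

theorem cov2 : T.cover 2 [(sel (ones 3510) ip2 1), (sel (ones 3510) ip2 2), (sel (ones 3510) ip2 3), (sel (ones 3510) ip2 4), (sel (ones 3510) ip2 5), (sel (ones 3510) ip2 6), (sel (ones 3510) ip2 7), (sel (ones 3510) ip2 8), (sel (ones 3510) ip2 9), (sel (ones 3510) ip2 10), (sel (ones 3510) ip2 11), (sel (ones 3510) ip2 12), (sel (ones 3510) ip2 13), (sel (ones 3510) ip2 14), (sel (ones 3510) ip2 15)] = true := by decide +kernel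

theorem tl2 : T.treeLt 12 2 = true := by decide +kernel

theorem rot3_1 : T.rot 3 [3] (sel (ones 3510) ip3 1) = true := by decide +kernel

theorem rot3_1r : band (Rule.ok (2 * 9) EX RL ⟨3 :: [3], [], 39, false⟩) (lall (memL L) [3]) = true := by decide +kernel

theorem rot3_2 : T.rot 3 [1, 3, 1] (sel (ones 3510) ip3 2) = true := by decide +kernel

theorem rot3_2r : band (Rule.ok (2 * 9) EX RL ⟨3 :: [1, 3, 1], [], 1, true⟩) (lall (memL L) [1, 3, 1]) = true := by decide +kernel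

theorem rot3_3 : T.rot 3 [5, 3, 5] (sel (ones 3510) ip3 3) = true := by decide +kernel

theorem rot3_3r : band (Rule.ok (2 * 9) EX RL ⟨3 :: [5, 3, 5], [], 16, false⟩) (lall (memL L) [5, 3, 5]) = true := by decide +kernel

theorem rot3_4 : T.rot 3 [6, 3, 6] (sel (ones 3510) ip3 4) = true := by decide +kernel

theorem rot3_4r : band (Rule.ok (2 * 9) EX RL ⟨3 :: [6, 3, 6], [], 17, false⟩) (lall (memL L) [6, 3, 6]) = true := by decide +kernel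

theorem rot3_5 : T.rot 3 [7, 3, 7] (sel (ones 3510) ip3 5) = true := by decide +kernel

theorem rot3_5r : band (Rule.ok (2 * 9) EX RL ⟨3 :: [7, 3, 7], [], 18, false⟩) (lall (memL L) [7, 3, 7]) = true := by decide +kernel

theorem rot3_6 : T.rot 3 [8, 3, 8] (sel (ones 3510) ip3 6) = true := by decide +kernel

theorem rot3_6r : band (Rule.ok (2 * 9) EX RL ⟨3 :: [8, 3, 8], [], 19, false⟩) (lall (memL L) [8, 3, 8]) = true := by decide +kernel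

theorem rot3_7 : T.rot 3 [9, 3, 9] (sel (ones 3510) ip3 7) = true := by decide +kernel

theorem rot3_7r : band (Rule.ok (2 * 9) EX RL ⟨3 :: [9, 3, 9], [], 20, false⟩) (lall (memL L) [9, 3, 9]) = true := by decide +kernel

theorem rot3_8 : T.rot 3 [2, 3, 2, 3, 2] (sel (ones 3510) ip3 8) = true := by decide +kernel

theorem rot3_8r : band (Rule.ok (2 * 9) EX RL ⟨3 :: [2, 3, 2, 3, 2], [], 8, true⟩) (lall (memL L) [2, 3, 2, 3, 2]) = true := by decide +kernel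

theorem rot3_9 : T.rot 3 [4, 3, 4, 3, 4] (sel (ones 3510) ip3 9) = true := by decide +kernel

theorem rot3_9r : band (Rule.ok (2 * 9) EX RL ⟨3 :: [4, 3, 4, 3, 4], [], 15, false⟩) (lall (memL L) [4, 3, 4, 3, 4]) = true := by decide +kernel

theorem rot3_10 : T.rot 3 [2, 1, 8, 6, 5, 4, 3, 2, 1, 8, 6, 5, 4, 3, 2, 1, 8, 6, 5, 4, 3, 2, 1, 8, 6, 5, 4, 3, 2, 1, 8, 6, 5, 4, 3, 2, 1, 8, 6, 5, 4, 3, 2, 1, 8, 6, 5, 4, 3, 2, 1, 8, 6, 5, 4, 3, 2, 1, 8, 6, 5, 4] (sel (ones 3510) ip3 10) = true := by decide +kernel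

theorem rot3_10r : band (Rule.ok (2 * 9) EX RL ⟨3 :: [2, 1, 8, 6, 5, 4, 3, 2, 1, 8, 6, 5, 4, 3, 2, 1, 8, 6, 5, 4, 3, 2, 1, 8, 6, 5, 4, 3, 2, 1, 8, 6, 5, 4, 3, 2, 1, 8, 6, 5, 4, 3, 2, 1, 8, 6, 5, 4, 3, 2, 1, 8, 6, 5, 4, 3, 2, 1, 8, 6, 5, 4], [0, 2, 4], 37, true⟩) (lall (memL L) [2, 1, 8, 6, 5, 4, 3, 2, 1, 8, 6, 5, 4, 3, 2, 1, 8, 6, 5, 4, 3, 2, 1, 8, 6, 5, 4, 3, 2, 1, 8, 6, 5, 4, 3, 2, 1, 8, 6, 5, 4, 3, 2, 1, 8, 6, 5, 4, 3, 2, 1, 8, 6, 5, 4, 3, 2, 1, 8, 6, 5, 4]) = true := by decide +kernel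

theorem rot3_11 : T.rot 3 [4, 5, 6, 8, 1, 2, 3, 4, 5, 6, 8, 1, 2, 3, 4, 5, 6, 8, 1, 2, 3, 4, 5, 6, 8, 1, 2, 3, 4, 5, 6, 8, 1, 2, 3, 4, 5, 6, 8, 1, 2, 3, 4, 5, 6, 8, 1, 2, 3, 4, 5, 6, 8, 1, 2, 3, 4, 5, 6, 8, 1, 2] (sel (ones 3510) ip3 11) = true := by decide +kernel

theorem rot3_11r : band (Rule.ok (2 * 9) EX RL ⟨3 :: [4, 5, 6, 8, 1, 2, 3, 4, 5, 6, 8, 1, 2, 3, 4, 5, 6, 8, 1, 2, 3, 4, 5, 6, 8, 1, 2, 3, 4, 5, 6, 8, 1, 2, 3, 4, 5, 6, 8, 1, 2, 3, 4, 5, 6, 8, 1, 2, 3, 4, 5, 6, 8, 1, 2, 3, 4, 5, 6, 8, 1, 2], [0, 2], 37, false⟩) (lall (memL L) [4, 5, 6, 8, 1, 2, 3, 4, 5, 6, 8, 1, 2, 3, 4, 5, 6, 8, 1, 2, 3, 4, 5, 6, 8, 1, 2, 3, 4, 5, 6, 8, 1, 2, 3, 4, 5, 6, 8, 1, 2, 3, 4, 5, 6, 8, 1, 2, 3, 4, 5, 6, 8, 1, 2, 3, 4, 5, 6, 8, 1, 2]) = true := by decide +kernel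

theorem rot3_12 : T.rot 3 [2, 8, 7, 6, 5, 4, 3, 2, 8, 7, 6, 5, 4, 3, 2, 8, 7, 6, 5, 4, 3, 2, 8, 7, 6, 5, 4, 3, 2, 8, 7, 6, 5, 4, 3, 2, 8, 7, 6, 5, 4, 3, 2, 8, 7, 6, 5, 4, 3, 2, 8, 7, 6, 5, 4, 3, 2, 8, 7, 6, 5, 4] (sel (ones 3510) ip3 12) = true := by decide +kernel

theorem rot3_12r : band (Rule.ok (2 * 9) EX RL ⟨3 :: [2, 8, 7, 6, 5, 4, 3, 2, 8, 7, 6, 5, 4, 3, 2, 8, 7, 6, 5, 4, 3, 2, 8, 7, 6, 5, 4, 3, 2, 8, 7, 6, 5, 4, 3, 2, 8, 7, 6, 5, 4, 3, 2, 8, 7, 6, 5, 4, 3, 2, 8, 7, 6, 5, 4, 3, 2, 8, 7, 6, 5, 4], [2, 4], 38, true⟩) (lall (memL L) [2, 8, 7, 6, 5, 4, 3, 2, 8, 7, 6, 5, 4, 3, 2, 8, 7, 6, 5, 4, 3, 2, 8, 7, 6, 5, 4, 3, 2, 8, 7, 6, 5, 4, 3, 2, 8, 7, 6, 5, 4, 3, 2, 8, 7, 6, 5, 4, 3, 2, 8, 7, 6, 5, 4, 3, 2, 8, 7, 6, 5, 4]) = true := by decide +kernel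

theorem rot3_13 : T.rot 3 [4, 5, 6, 7, 8, 2, 3, 4, 5, 6, 7, 8, 2, 3, 4, 5, 6, 7, 8, 2, 3, 4, 5, 6, 7, 8, 2, 3, 4, 5, 6, 7, 8, 2, 3, 4, 5, 6, 7, 8, 2, 3, 4, 5, 6, 7, 8, 2, 3, 4, 5, 6, 7, 8, 2, 3, 4, 5, 6, 7, 8, 2] (sel (ones 3510) ip3 13) = true := by decide +kernel

theorem rot3_13r : band (Rule.ok (2 * 9) EX RL ⟨3 :: [4, 5, 6, 7, 8, 2, 3, 4, 5, 6, 7, 8, 2, 3, 4, 5, 6, 7, 8, 2, 3, 4, 5, 6, 7, 8, 2, 3, 4, 5, 6, 7, 8, 2, 3, 4, 5, 6, 7, 8, 2, 3, 4, 5, 6, 7, 8, 2, 3, 4, 5, 6, 7, 8, 2, 3, 4, 5, 6, 7, 8, 2], [2], 38, false⟩) (lall (memL L) [4, 5, 6, 7, 8, 2, 3, 4, 5, 6, 7, 8, 2, 3, 4, 5, 6, 7, 8, 2, 3, 4, 5, 6, 7, 8, 2, 3, 4, 5, 6, 7, 8, 2, 3, 4, 5, 6, 7, 8, 2, 3, 4, 5, 6, 7, 8, 2, 3, 4, 5, 6, 7, 8, 2, 3, 4, 5, 6, 7, 8, 2]) = true := by decide +kernel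

theorem rot3_14 : T.rot 3 [4, 9, 8, 4, 6, 5, 4, 2, 3, 4, 9, 8, 4, 6, 5, 4, 2, 3, 4, 9, 8, 4, 6, 5, 4, 2, 3, 4, 9, 8, 4, 6, 5, 4, 2, 3, 4, 9, 8, 4, 6, 5, 4, 2, 3, 4, 9, 8, 4, 6, 5, 4, 2, 3, 4, 9, 8, 4, 6, 5, 4, 2, 3, 4, 9, 8, 4, 6, 5, 4, 2, 3, 4, 9, 8, 4, 6, 5, 4, 2, 3, 4, 9, 8, 4, 6, 5, 4, 2] (sel (ones 3510) ip3 14) = true := by decide +kernel

theorem rot3_14r : band (Rule.ok (2 * 9) EX RL ⟨3 :: [4, 9, 8, 4, 6, 5, 4, 2, 3, 4, 9, 8, 4, 6, 5, 4, 2, 3, 4, 9, 8, 4, 6, 5, 4, 2, 3, 4, 9, 8, 4, 6, 5, 4, 2, 3, 4, 9, 8, 4, 6, 5, 4, 2, 3, 4, 9, 8, 4, 6, 5, 4, 2, 3, 4, 9, 8, 4, 6, 5, 4, 2, 3, 4, 9, 8, 4, 6, 5, 4, 2, 3, 4, 9, 8, 4, 6, 5, 4, 2, 3, 4, 9, 8, 4, 6, 5, 4, 2], [6, 4], 36, true⟩) (lall (memL L) [4, 9, 8, 4, 6, 5, 4, 2, 3, 4, 9, 8, 4, 6, 5, 4, 2, 3, 4, 9, 8,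 4, 6, 5, 4, 2, 3, 4, 9, 8, 4, 6, 5, 4, 2, 3, 4, 9, 8, 4, 6, 5, 4, 2, 3, 4, 9, 8, 4, 6, 5, 4, 2, 3, 4, 9, 8, 4, 6, 5, 4, 2, 3, 4, 9, 8, 4, 6, 5, 4, 2, 3, 4, 9, 8, 4, 6, 5, 4, 2, 3, 4, 9, 8, 4, 6, 5, 4, 2]) = true := by decide +kernel

theorem rot3_15 : T.rot 3 [2, 4, 5, 6, 4, 8, 9, 4, 3, 2, 4, 5, 6, 4, 8, 9, 4, 3, 2, 4, 5, 6, 4, 8, 9, 4, 3, 2, 4, 5, 6, 4, 8, 9, 4, 3, 2, 4, 5, 6, 4, 8, 9, 4, 3, 2, 4, 5, 6, 4, 8, 9, 4, 3, 2, 4, 5, 6, 4, 8, 9, 4, 3, 2, 4, 5, 6, 4, 8, 9, 4, 3, 2, 4, 5, 6, 4, 8, 9, 4, 3, 2, 4, 5, 6, 4, 8, 9, 4] (sel (ones 3510) ip3 15) = true := by decide +kernel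

theorem rot3_15r : band (Rule.ok (2 * 9) EX RL ⟨3 :: [2, 4, 5, 6, 4, 8, 9, 4, 3, 2, 4, 5, 6, 4, 8, 9, 4, 3, 2, 4, 5, 6, 4, 8, 9, 4, 3, 2, 4, 5, 6, 4, 8, 9, 4, 3, 2, 4, 5, 6, 4, 8, 9, 4, 3, 2, 4, 5, 6, 4, 8, 9, 4, 3, 2, 4, 5, 6, 4, 8, 9, 4, 3, 2, 4, 5, 6, 4, 8, 9, 4, 3, 2, 4, 5, 6, 4, 8, 9, 4, 3, 2, 4, 5, 6, 4, 8, 9, 4], [6], 36, false⟩) (lall (memL L) [2, 4, 5, 6, 4, 8, 9, 4, 3, 2, 4, 5, 6, 4, 8, 9, 4, 3, 2, 4, 5, 6, 4, 8, 9, 4, 3, 2, 4, 5, 6, 4, 8, 9, 4, 3, 2, 4, 5, 6, 4, 8, 9, 4, 3, 2, 4, 5, 6, 4, 8, 9, 4, 3, 2, 4, 5, 6, 4, 8, 9, 4, 3, 2, 4, 5, 6, 4, 8, 9, 4, 3, 2, 4, 5, 6, 4, 8, 9, 4, 3, 2, 4, 5, 6, 4, 8, 9, 4]) = true := by decide +kernel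

theorem cov3 : T.cover 3 [(sel (ones 3510) ip3 1), (sel (ones 3510) ip3 2), (sel (ones 3510) ip3 3), (sel (ones 3510) ip3 4), (sel (ones 3510) ip3 5), (sel (ones 3510) ip3 6), (sel (ones 3510) ip3 7), (sel (ones 3510) ip3 8), (sel (ones 3510) ip3 9), (sel (ones 3510) ip3 10), (sel (ones 3510) ip3 11), (sel (ones 3510) ip3 12), (sel (ones 3510) ip3 13), (sel (ones 3510) ip3 14), (sel (ones 3510) ip3 15), 1] = true := by decide +kernel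

theorem tl3 : T.treeLt 12 3 = true := by decide +kernel

theorem rot4_1 : T.rot 4 [4] (sel (ones 3510) ip4 1) = true := by decide +kernel

theorem rot4_1r : band (Rule.ok (2 * 9) EX RL ⟨4 :: [4], [], 39, false⟩) (lall (memL L) [4]) = true := by decide +kernel

theorem rot4_2 : T.rot 4 [1, 4, 1] (sel (ones 3510) ip4 2) = true := by decide +kernel

theorem rot4_2r : band (Rule.ok (2 * 9) EX RL ⟨4 :: [1, 4, 1], [], 2, true⟩) (lall (memL L) [1, 4, 1]) = true := by decide +kernel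

theorem rot4_3 : T.rot 4 [2, 4, 2] (sel (ones 3510) ip4 3) = true := by decide +kernel

theorem rot4_3r : band (Rule.ok (2 * 9) EX RL ⟨4 :: [2, 4, 2], [], 9, true⟩) (lall (memL L) [2, 4, 2]) = true := by decide +kernel

theorem rot4_4 : T.rot 4 [6, 4, 6] (sel (ones 3510) ip4 4) = true := by decide +kernel

theorem rot4_4r : band (Rule.ok (2 * 9) EX RL ⟨4 :: [6, 4, 6], [], 22, false⟩) (lall (memL L) [6, 4, 6]) = true := by decide +kernel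

theorem rot4_5 : T.rot 4 [7, 4, 7] (sel (ones 3510) ip4 5) = true := by decide +kernel

theorem rot4_5r : band (Rule.ok (2 * 9) EX RL ⟨4 :: [7, 4, 7], [], 23, false⟩) (lall (memL L) [7, 4, 7]) = true := by decide +kernel

theorem rot4_6 : T.rot 4 [9, 4, 9] (sel (ones 3510) ip4 6) = true := by decide +kernel

theorem rot4_6r : band (Rule.ok (2 * 9) EX RL ⟨4 :: [9, 4, 9], [], 25, false⟩) (lall (memL L) [9, 4, 9]) = true := by decide +kernel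

theorem rot4_7 : T.rot 4 [3, 4, 3, 4, 3] (sel (ones 3510) ip4 7) = true := by decide +kernel

theorem rot4_7r : band (Rule.ok (2 * 9) EX RL ⟨4 :: [3, 4, 3, 4, 3], [], 15, true⟩) (lall (memL L) [3, 4, 3, 4, 3]) = true := by decide +kernel

theorem rot4_8 : T.rot 4 [5, 4, 5, 4, 5] (sel (ones 3510) ip4 8) = true := by decide +kernel

theorem rot4_8r : band (Rule.ok (2 * 9) EX RL ⟨4 :: [5, 4, 5, 4, 5], [], 21, false⟩) (lall (memL L) [5, 4, 5, 4, 5]) = true := by decide +kernel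

theorem rot4_9 : T.rot 4 [8, 4, 8, 4, 8] (sel (ones 3510) ip4 9) = true := by decide +kernel

theorem rot4_9r : band (Rule.ok (2 * 9) EX RL ⟨4 :: [8, 4, 8, 4, 8], [], 24, false⟩) (lall (memL L) [8, 4, 8, 4, 8]) = true := by decide +kernel

theorem rot4_10 : T.rot 4 [3, 2, 1, 11, 8, 5] (sel (ones 3510) ip4 10) = true := by decide +kernel

theorem rot4_10r : band (Rule.ok (2 * 9) EX RL ⟨4 :: [3, 2, 1, 11, 8, 5], [], 39, false⟩) (lall (memL L) [3, 2, 1, 11, 8, 5]) = true := by decide +kernel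

theorem rot4_11 : T.rot 4 [3, 2, 1, 8, 6, 5, 4, 3, 2, 1, 8, 6, 5, 4, 3, 2, 1, 8, 6, 5, 4, 3, 2, 1, 8, 6, 5, 4, 3, 2, 1, 8, 6, 5, 4, 3, 2, 1, 8, 6, 5, 4, 3, 2, 1, 8, 6, 5, 4, 3, 2, 1, 8, 6, 5, 4, 3, 2, 1, 8, 6, 5] (sel (ones 3510) ip4 11) = true := by decide +kernel

theorem rot4_11r : band (Rule.ok (2 * 9) EX RL ⟨4 :: [3, 2, 1, 8, 6, 5, 4, 3, 2, 1, 8, 6, 5, 4, 3, 2, 1, 8, 6, 5, 4, 3, 2, 1, 8, 6, 5, 4, 3, 2, 1, 8, 6, 5, 4, 3, 2, 1, 8, 6, 5, 4, 3, 2, 1, 8, 6, 5, 4, 3, 2, 1, 8, 6, 5, 4, 3, 2, 1, 8, 6, 5], [14, 10, 8], 37, true⟩) (lall (memL L) [3, 2, 1, 8, 6, 5, 4, 3, 2, 1, 8, 6, 5, 4, 3, 2, 1, 8, 6, 5, 4, 3, 2, 1, 8, 6, 5, 4, 3, 2, 1, 8, 6, 5, 4, 3, 2, 1, 8, 6, 5, 4, 3, 2, 1, 8, 6, 5, 4, 3, 2, 1, 8, 6, 5, 4, 3, 2, 1, 8, 6, 5]) = true := by decide +kernel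

theorem rot4_12 : T.rot 4 [5, 6, 8, 1, 2, 3, 4, 5, 6, 8, 1, 2, 3, 4, 5, 6, 8, 1, 2, 3, 4, 5, 6, 8, 1, 2, 3, 4, 5, 6, 8, 1, 2, 3, 4, 5, 6, 8, 1, 2, 3, 4, 5, 6, 8, 1, 2, 3, 4, 5, 6, 8, 1, 2, 3, 4, 5, 6, 8, 1, 2, 3] (sel (ones 3510) ip4 12) = true := by decide +kernel

theorem rot4_12r : band (Rule.ok (2 * 9) EX RL ⟨4 :: [5, 6, 8, 1, 2, 3, 4, 5, 6, 8, 1, 2, 3, 4, 5, 6, 8, 1, 2, 3, 4, 5, 6, 8, 1, 2, 3, 4, 5, 6, 8, 1, 2, 3, 4, 5, 6, 8, 1, 2, 3, 4, 5, 6, 8, 1, 2, 3, 4, 5, 6, 8, 1, 2, 3, 4, 5, 6, 8, 1, 2, 3], [0, 2, 4], 37, false⟩) (lall (memL L) [5, 6, 8, 1, 2, 3, 4, 5, 6, 8, 1, 2, 3, 4, 5, 6, 8, 1, 2, 3, 4, 5, 6, 8, 1, 2, 3, 4, 5, 6, 8, 1, 2, 3, 4, 5, 6, 8, 1, 2, 3, 4, 5, 6, 8, 1, 2, 3, 4, 5, 6, 8, 1, 2, 3, 4, 5, 6, 8, 1, 2, 3]) = true := by decide +kernel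

theorem rot4_13 : T.rot 4 [3, 2, 8, 7, 6, 5, 4, 3, 2, 8, 7, 6, 5, 4, 3, 2, 8, 7, 6, 5, 4, 3, 2, 8, 7, 6, 5, 4, 3, 2, 8, 7, 6, 5, 4, 3, 2, 8, 7, 6, 5, 4, 3, 2, 8, 7, 6, 5, 4, 3, 2, 8, 7, 6, 5, 4, 3, 2, 8, 7, 6, 5] (sel (ones 3510) ip4 13) = true := by decide +kernel

theorem rot4_13r : band (Rule.ok (2 * 9) EX RL ⟨4 :: [3, 2, 8, 7, 6, 5, 4, 3, 2, 8, 7, 6, 5, 4, 3, 2, 8, 7, 6, 5, 4, 3, 2, 8, 7, 6, 5, 4, 3, 2, 8, 7, 6, 5, 4, 3, 2, 8, 7, 6, 5, 4, 3, 2, 8, 7, 6, 5, 4, 3, 2, 8, 7, 6, 5, 4, 3, 2, 8, 7, 6, 5], [2, 4, 6], 38, true⟩) (lall (memL L) [3, 2, 8, 7, 6, 5, 4, 3, 2, 8, 7, 6, 5, 4, 3, 2, 8, 7, 6, 5, 4, 3, 2, 8, 7, 6, 5, 4, 3, 2, 8, 7, 6, 5, 4, 3, 2, 8, 7, 6, 5, 4, 3, 2, 8, 7, 6, 5, 4, 3, 2, 8, 7, 6, 5, 4, 3, 2, 8, 7, 6, 5]) = true := by decide +kernel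

theorem rot4_14 : T.rot 4 [5, 6, 7, 8, 2, 3, 4, 5, 6, 7, 8, 2, 3, 4, 5, 6, 7, 8, 2, 3, 4, 5, 6, 7, 8, 2, 3, 4, 5, 6, 7, 8, 2, 3, 4, 5, 6, 7, 8, 2, 3, 4, 5, 6, 7, 8, 2, 3, 4, 5, 6, 7, 8, 2, 3, 4, 5, 6, 7, 8, 2, 3] (sel (ones 3510) ip4 14) = true := by decide +kernel

theorem rot4_14r : band (Rule.ok (2 * 9) EX RL ⟨4 :: [5, 6, 7, 8, 2, 3, 4, 5, 6, 7, 8, 2, 3, 4, 5, 6, 7, 8, 2, 3, 4, 5, 6, 7, 8, 2, 3, 4, 5, 6, 7, 8, 2, 3, 4, 5, 6, 7, 8, 2, 3, 4, 5, 6, 7, 8, 2, 3, 4, 5, 6, 7, 8, 2, 3, 4, 5, 6, 7, 8, 2, 3], [2, 4], 38, false⟩) (lall (memL L) [5, 6, 7, 8, 2, 3, 4, 5, 6, 7, 8, 2, 3, 4, 5, 6, 7, 8, 2, 3, 4, 5, 6, 7, 8, 2, 3, 4, 5, 6, 7, 8, 2, 3, 4, 5, 6, 7, 8, 2, 3, 4, 5, 6, 7, 8, 2, 3, 4, 5, 6, 7, 8, 2, 3, 4, 5, 6, 7, 8, 2, 3]) = true := by decide +kernel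

theorem rot4_15 : T.rot 4 [6, 5, 4, 2, 3, 4, 9, 8, 4, 6, 5, 4, 2, 3, 4, 9, 8, 4, 6, 5, 4, 2, 3, 4, 9, 8, 4, 6, 5, 4, 2, 3, 4, 9, 8, 4, 6, 5, 4, 2, 3, 4, 9, 8, 4, 6, 5, 4, 2, 3, 4, 9, 8, 4, 6, 5, 4, 2, 3, 4, 9, 8, 4, 6, 5, 4, 2, 3, 4, 9, 8, 4, 6, 5, 4, 2, 3, 4, 9, 8, 4, 6, 5, 4, 2, 3, 4, 9, 8] (sel (ones 3510) ip4 15) = true := by decide +kernel

theorem rot4_15r : band (Rule.ok (2 * 9) EX RL ⟨4 :: [6, 5, 4, 2, 3, 4, 9, 8, 4, 6, 5, 4, 2, 3, 4, 9, 8, 4, 6, 5, 4, 2, 3, 4, 9, 8, 4, 6, 5, 4, 2, 3, 4, 9, 8, 4, 6, 5, 4, 2, 3, 4, 9, 8, 4, 6, 5, 4, 2, 3, 4, 9, 8, 4, 6, 5, 4, 2, 3, 4, 9, 8, 4, 6, 5, 4, 2, 3, 4, 9, 8, 4, 6, 5, 4, 2, 3, 4, 9, 8, 4, 6, 5, 4, 2, 3, 4, 9, 8], [16, 14], 36, true⟩) (lall (memL L) [6, 5, 4, 2, 3, 4, 9, 8, 4, 6, 5, 4, 2, 3, 4, 9, 8, 4, 6, 5, 4,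 2, 3, 4, 9, 8, 4, 6, 5, 4, 2, 3, 4, 9, 8, 4, 6, 5, 4, 2, 3, 4, 9, 8, 4, 6, 5, 4, 2, 3, 4, 9, 8, 4, 6, 5, 4, 2, 3, 4, 9, 8, 4, 6, 5, 4, 2, 3, 4, 9, 8, 4, 6, 5, 4, 2, 3, 4, 9, 8, 4, 6, 5, 4, 2, 3, 4, 9, 8]) = true := by decide +kernel

theorem rot4_16 : T.rot 4 [2, 3, 4, 9, 8, 4, 6, 5, 4, 2, 3, 4, 9, 8, 4, 6, 5, 4, 2, 3, 4, 9, 8, 4, 6, 5, 4, 2, 3, 4, 9, 8, 4, 6, 5, 4, 2, 3, 4, 9, 8, 4, 6, 5, 4, 2, 3, 4, 9, 8, 4, 6, 5, 4, 2, 3, 4, 9, 8, 4, 6, 5, 4, 2, 3, 4, 9, 8, 4, 6, 5, 4, 2, 3, 4, 9, 8, 4, 6, 5, 4, 2, 3, 4, 9, 8, 4, 6, 5] (sel (ones 3510) ip4 16) = true := by decide +kernel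

theorem rot4_16r : band (Rule.ok (2 * 9) EX RL ⟨4 :: [2, 3, 4, 9, 8, 4, 6, 5, 4, 2, 3, 4, 9, 8, 4, 6, 5, 4, 2, 3, 4, 9, 8, 4, 6, 5, 4, 2, 3, 4, 9, 8, 4, 6, 5, 4, 2, 3, 4, 9, 8, 4, 6, 5, 4, 2, 3, 4, 9, 8, 4, 6, 5, 4, 2, 3, 4, 9, 8, 4, 6, 5, 4, 2, 3, 4, 9, 8, 4, 6, 5, 4, 2, 3, 4, 9, 8, 4, 6, 5, 4, 2, 3, 4, 9, 8, 4, 6, 5], [6, 4, 2, 6], 36, true⟩) (lall (memL L) [2, 3, 4, 9, 8, 4, 6, 5, 4, 2, 3, 4, 9, 8, 4, 6, 5, 4, 2, 3, 4, 9, 8, 4, 6, 5, 4, 2, 3, 4, 9, 8, 4, 6, 5, 4, 2, 3, 4, 9, 8, 4, 6, 5, 4, 2, 3, 4, 9, 8, 4, 6, 5, 4, 2, 3, 4, 9, 8, 4, 6, 5, 4, 2, 3, 4, 9, 8, 4, 6, 5, 4, 2, 3, 4, 9, 8, 4, 6, 5, 4, 2, 3, 4, 9, 8, 4, 6, 5]) = true := by decide +kernel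

theorem rot4_17 : T.rot 4 [9, 8, 4, 6, 5, 4, 2, 3, 4, 9, 8, 4, 6, 5, 4, 2, 3, 4, 9, 8, 4, 6, 5, 4, 2, 3, 4, 9, 8, 4, 6, 5, 4, 2, 3, 4, 9, 8, 4, 6, 5, 4, 2, 3, 4, 9, 8, 4, 6, 5, 4, 2, 3, 4, 9, 8, 4, 6, 5, 4, 2, 3, 4, 9, 8, 4, 6, 5, 4, 2, 3, 4, 9, 8, 4, 6, 5, 4, 2, 3, 4, 9, 8, 4, 6, 5, 4, 2, 3] (sel (ones 3510) ip4 17) = true := by decide +kernel

theorem rot4_17r : band (Rule.ok (2 * 9) EX RL ⟨4 :: [9, 8, 4, 6, 5, 4, 2, 3, 4, 9, 8, 4, 6, 5, 4, 2, 3, 4, 9, 8, 4, 6, 5, 4, 2, 3, 4, 9, 8, 4, 6, 5, 4, 2, 3, 4, 9, 8, 4, 6, 5, 4, 2, 3, 4, 9, 8, 4, 6, 5, 4, 2, 3, 4, 9, 8, 4, 6, 5, 4, 2, 3, 4, 9, 8, 4, 6, 5, 4, 2, 3, 4, 9, 8, 4, 6, 5, 4, 2, 3, 4, 9, 8, 4, 6, 5, 4, 2, 3], [6], 36, true⟩) (lall (memL L) [9, 8, 4, 6, 5, 4, 2, 3, 4, 9, 8, 4, 6, 5, 4, 2, 3, 4, 9, 8, 4, 6,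 5, 4, 2, 3, 4, 9, 8, 4, 6, 5, 4, 2, 3, 4, 9, 8, 4, 6, 5, 4, 2, 3, 4, 9, 8, 4, 6, 5, 4, 2, 3, 4, 9, 8, 4, 6, 5, 4, 2, 3, 4, 9, 8, 4, 6, 5, 4, 2, 3, 4, 9, 8, 4, 6, 5, 4, 2, 3, 4, 9, 8, 4, 6, 5, 4, 2, 3]) = true := by decide +kernel

theorem rot4_18 : T.rot 4 [3, 2, 4, 5, 6, 4, 8, 9, 4, 3, 2, 4, 5, 6, 4, 8, 9, 4, 3, 2, 4, 5, 6, 4, 8, 9, 4, 3, 2, 4, 5, 6, 4, 8, 9, 4, 3, 2, 4, 5, 6, 4, 8, 9, 4, 3, 2, 4, 5, 6, 4, 8, 9, 4, 3, 2, 4, 5, 6, 4, 8, 9, 4, 3, 2, 4, 5, 6, 4, 8, 9, 4, 3, 2, 4, 5, 6, 4, 8, 9, 4, 3, 2, 4, 5, 6, 4, 8, 9] (sel (ones 3510) ip4 18) = true := by decide +kernel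

theorem rot4_18r : band (Rule.ok (2 * 9) EX RL ⟨4 :: [3, 2, 4, 5, 6, 4, 8, 9, 4, 3, 2, 4, 5, 6, 4, 8, 9, 4, 3, 2, 4, 5, 6, 4, 8, 9, 4, 3, 2, 4, 5, 6, 4, 8, 9, 4, 3, 2, 4, 5, 6, 4, 8, 9, 4, 3, 2, 4, 5, 6, 4, 8, 9, 4, 3, 2, 4, 5, 6, 4, 8, 9, 4, 3, 2, 4, 5, 6, 4, 8, 9, 4, 3, 2, 4, 5, 6, 4, 8, 9, 4, 3, 2, 4, 5, 6, 4, 8, 9], [], 36, false⟩) (lall (memL L) [3, 2, 4, 5, 6, 4, 8, 9, 4, 3, 2, 4, 5, 6, 4, 8, 9, 4, 3, 2, 4, 5, 6, 4, 8, 9, 4, 3, 2, 4, 5, 6, 4, 8, 9, 4, 3, 2, 4, 5, 6, 4, 8, 9, 4, 3, 2, 4, 5, 6, 4, 8, 9, 4, 3, 2, 4, 5, 6, 4, 8, 9, 4, 3, 2, 4, 5, 6, 4, 8, 9, 4, 3, 2, 4, 5, 6, 4, 8, 9, 4, 3, 2, 4, 5, 6, 4, 8, 9]) = true := by decide +kernel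

theorem rot4_19 : T.rot 4 [5, 6, 4, 8, 9, 4, 3, 2, 4, 5, 6, 4, 8, 9, 4, 3, 2, 4, 5, 6, 4, 8, 9, 4, 3, 2, 4, 5, 6, 4, 8, 9, 4, 3, 2, 4, 5, 6, 4, 8, 9, 4, 3, 2, 4, 5, 6, 4, 8, 9, 4, 3, 2, 4, 5, 6, 4, 8, 9, 4, 3, 2, 4, 5, 6, 4, 8, 9, 4, 3, 2, 4, 5, 6, 4, 8, 9, 4, 3, 2, 4, 5, 6, 4, 8, 9, 4, 3, 2] (sel (ones 3510) ip4 19) = true := by decide +kernel

theorem rot4_19r : band (Rule.ok (2 * 9) EX RL ⟨4 :: [5, 6, 4, 8, 9, 4, 3, 2, 4, 5, 6, 4, 8, 9, 4, 3, 2, 4, 5, 6, 4, 8, 9, 4, 3, 2, 4, 5, 6, 4, 8, 9, 4, 3, 2, 4, 5, 6, 4, 8, 9, 4, 3, 2, 4, 5, 6, 4, 8, 9, 4, 3, 2, 4, 5, 6, 4, 8, 9, 4, 3, 2, 4, 5, 6, 4, 8, 9, 4, 3, 2, 4, 5, 6, 4, 8, 9, 4, 3, 2, 4, 5, 6, 4, 8, 9, 4, 3, 2], [6, 4, 2], 36, false⟩) (lall (memL L) [5, 6, 4, 8, 9, 4, 3, 2, 4, 5, 6, 4, 8, 9, 4, 3, 2, 4, 5, 6,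 4, 8, 9, 4, 3, 2, 4, 5, 6, 4, 8, 9, 4, 3, 2, 4, 5, 6, 4, 8, 9, 4, 3, 2, 4, 5, 6, 4, 8, 9, 4, 3, 2, 4, 5, 6, 4, 8, 9, 4, 3, 2, 4, 5, 6, 4, 8, 9, 4, 3, 2, 4, 5, 6, 4, 8, 9, 4, 3, 2, 4, 5, 6, 4, 8, 9, 4, 3, 2]) = true := by decide +kernel

theorem rot4_20 : T.rot 4 [8, 9, 4, 3, 2, 4, 5, 6, 4, 8, 9, 4, 3, 2, 4, 5, 6, 4, 8, 9, 4, 3, 2, 4, 5, 6, 4, 8, 9, 4, 3, 2, 4, 5, 6, 4, 8, 9, 4, 3, 2, 4, 5, 6, 4, 8, 9, 4, 3, 2, 4, 5, 6, 4, 8, 9, 4, 3, 2, 4, 5, 6, 4, 8, 9, 4, 3, 2, 4, 5, 6, 4, 8, 9, 4, 3, 2, 4, 5, 6, 4, 8, 9, 4, 3, 2, 4, 5, 6] (sel (ones 3510) ip4 20) = true := by decide +kernel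

theorem rot4_20r : band (Rule.ok (2 * 9) EX RL ⟨4 :: [8, 9, 4, 3, 2, 4, 5, 6, 4, 8, 9, 4, 3, 2, 4, 5, 6, 4, 8, 9, 4, 3, 2, 4, 5, 6, 4, 8, 9, 4, 3, 2, 4, 5, 6, 4, 8, 9, 4, 3, 2, 4, 5, 6, 4, 8, 9, 4, 3, 2, 4, 5, 6, 4, 8, 9, 4, 3, 2, 4, 5, 6, 4, 8, 9, 4, 3, 2, 4, 5, 6, 4, 8, 9, 4, 3, 2, 4, 5, 6, 4, 8, 9, 4, 3, 2, 4, 5, 6], [16, 14, 6], 36, false⟩) (lall (memL L) [8, 9, 4, 3, 2, 4, 5, 6, 4, 8, 9, 4, 3, 2, 4, 5, 6, 4, 8, 9, 4, 3, 2, 4, 5, 6, 4, 8, 9, 4, 3, 2, 4, 5, 6, 4, 8, 9, 4, 3, 2, 4, 5, 6, 4, 8, 9, 4, 3, 2, 4, 5, 6, 4, 8, 9, 4, 3, 2, 4, 5, 6, 4, 8, 9, 4, 3, 2, 4, 5, 6, 4, 8, 9, 4, 3, 2, 4, 5, 6, 4, 8, 9, 4, 3, 2, 4, 5, 6]) = true := by decide +kernel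

theorem cov4 : T.cover 4 [(sel (ones 3510) ip4 1), (sel (ones 3510) ip4 2), (sel (ones 3510) ip4 3), (sel (ones 3510) ip4 4), (sel (ones 3510) ip4 5), (sel (ones 3510) ip4 6), (sel (ones 3510) ip4 7), (sel (ones 3510) ip4 8), (sel (ones 3510) ip4 9), (sel (ones 3510) ip4 10), (sel (ones 3510) ip4 11), (sel (ones 3510) ip4 12), (sel (ones 3510) ip4 13), (sel (ones 3510) ip4 14), (sel (ones 3510) ip4 15), (sel (ones 3510) ip4 16), (sel (ones 3510) ip4 17), (sel (ones 3510) ip4 18), (sel (ones 3510) ip4 19), (sel (ones 3510) ip4 20), 1] = true := by decide +kernel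

theorem tl4 : T.treeLt 12 4 = true := by decide +kernel

theorem rot5_1 : T.rot 5 [5] (sel (ones 3510) ip5 1) = true := by decide +kernel

theorem rot5_1r : band (Rule.ok (2 * 9) EX RL ⟨5 :: [5], [], 39, false⟩) (lall (memL L) [5]) = true := by decide +kernel

theorem rot5_2 : T.rot 5 [1, 5, 1] (sel (ones 3510) ip5 2) = true := by decide +kernel

theorem rot5_2r : band (Rule.ok (2 * 9) EX RL ⟨5 :: [1, 5, 1], [], 3, true⟩) (lall (memL L) [1, 5, 1]) = true := by decide +kernel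

theorem rot5_3 : T.rot 5 [2, 5, 2] (sel (ones 3510) ip5 3) = true := by decide +kernel

theorem rot5_3r : band (Rule.ok (2 * 9) EX RL ⟨5 :: [2, 5, 2], [], 10, true⟩) (lall (memL L) [2, 5, 2]) = true := by decide +kernel

theorem rot5_4 : T.rot 5 [3, 5, 3] (sel (ones 3510) ip5 4) = true := by decide +kernel

theorem rot5_4r : band (Rule.ok (2 * 9) EX RL ⟨5 :: [3, 5, 3], [], 16, true⟩) (lall (memL L) [3, 5, 3]) = true := by decide +kernel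

theorem rot5_5 : T.rot 5 [7, 5, 7] (sel (ones 3510) ip5 5) = true := by decide +kernel

theorem rot5_5r : band (Rule.ok (2 * 9) EX RL ⟨5 :: [7, 5, 7], [], 27, false⟩) (lall (memL L) [7, 5, 7]) = true := by decide +kernel

theorem rot5_6 : T.rot 5 [8, 5, 8] (sel (ones 3510) ip5 6) = true := by decide +kernel

theorem rot5_6r : band (Rule.ok (2 * 9) EX RL ⟨5 :: [8, 5, 8], [], 28, false⟩) (lall (memL L) [8, 5, 8]) = true := by decide +kernel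

theorem rot5_7 : T.rot 5 [9, 5, 9] (sel (ones 3510) ip5 7) = true := by decide +kernel

theorem rot5_7r : band (Rule.ok (2 * 9) EX RL ⟨5 :: [9, 5, 9], [], 29, false⟩) (lall (memL L) [9, 5, 9]) = true := by decide +kernel

theorem rot5_8 : T.rot 5 [4, 5, 4, 5, 4] (sel (ones 3510) ip5 8) = true := by decide +kernel

theorem rot5_8r : band (Rule.ok (2 * 9) EX RL ⟨5 :: [4, 5, 4, 5, 4], [], 21, true⟩) (lall (memL L) [4, 5, 4, 5, 4]) = true := by decide +kernel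

theorem rot5_9 : T.rot 5 [6, 5, 6, 5, 6] (sel (ones 3510) ip5 9) = true := by decide +kernel

theorem rot5_9r : band (Rule.ok (2 * 9) EX RL ⟨5 :: [6, 5, 6, 5, 6], [], 26, false⟩) (lall (memL L) [6, 5, 6, 5, 6]) = true := by decide +kernel

theorem rot5_10 : T.rot 5 [4, 3, 2, 1, 8, 6, 5, 4, 3, 2, 1, 8, 6, 5, 4, 3, 2, 1, 8, 6, 5, 4, 3, 2, 1, 8, 6, 5, 4, 3, 2, 1, 8, 6, 5, 4, 3, 2, 1, 8, 6, 5, 4, 3, 2, 1, 8, 6, 5, 4, 3, 2, 1, 8, 6, 5, 4, 3, 2, 1, 8, 6] (sel (ones 3510) ip5 10) = true := by decide +kernel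

theorem rot5_10r : band (Rule.ok (2 * 9) EX RL ⟨5 :: [4, 3, 2, 1, 8, 6, 5, 4, 3, 2, 1, 8, 6, 5, 4, 3, 2, 1, 8, 6, 5, 4, 3, 2, 1, 8, 6, 5, 4, 3, 2, 1, 8, 6, 5, 4, 3, 2, 1, 8, 6, 5, 4, 3, 2, 1, 8, 6, 5, 4, 3, 2, 1, 8, 6, 5, 4, 3, 2, 1, 8, 6], [14, 10], 37, true⟩) (lall (memL L) [4, 3, 2, 1, 8, 6, 5, 4, 3, 2, 1, 8, 6, 5, 4, 3, 2, 1, 8, 6, 5, 4, 3, 2, 1, 8, 6, 5, 4, 3, 2, 1, 8, 6, 5, 4, 3, 2, 1, 8, 6, 5, 4, 3, 2, 1, 8, 6, 5, 4, 3, 2, 1, 8, 6, 5, 4, 3, 2, 1, 8, 6]) = true := by decide +kernel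

theorem rot5_11 : T.rot 5 [6, 8, 1, 2, 3, 4, 5, 6, 8, 1, 2, 3, 4, 5, 6, 8, 1, 2, 3, 4, 5, 6, 8, 1, 2, 3, 4, 5, 6, 8, 1, 2, 3, 4, 5, 6, 8, 1, 2, 3, 4, 5, 6, 8, 1, 2, 3, 4, 5, 6, 8, 1, 2, 3, 4, 5, 6, 8, 1, 2, 3, 4] (sel (ones 3510) ip5 11) = true := by decide +kernel

theorem rot5_11r : band (Rule.ok (2 * 9) EX RL ⟨5 :: [6, 8, 1, 2, 3, 4, 5, 6, 8, 1, 2, 3, 4, 5, 6, 8, 1, 2, 3, 4, 5, 6, 8, 1, 2, 3, 4, 5, 6, 8, 1, 2, 3, 4, 5, 6, 8, 1, 2, 3, 4, 5, 6, 8, 1, 2, 3, 4, 5, 6, 8, 1, 2, 3, 4, 5, 6, 8, 1, 2, 3, 4], [14, 10, 8], 37, false⟩) (lall (memL L) [6, 8, 1, 2, 3, 4, 5, 6, 8, 1, 2, 3, 4, 5, 6, 8, 1, 2, 3, 4, 5, 6, 8, 1, 2, 3, 4, 5, 6, 8, 1, 2, 3, 4, 5, 6, 8, 1, 2, 3, 4, 5, 6, 8, 1, 2, 3, 4, 5, 6, 8, 1, 2, 3, 4, 5, 6, 8, 1, 2, 3, 4]) = true := by decide +kernel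

theorem rot5_12 : T.rot 5 [4, 3, 2, 8, 7, 6, 5, 4, 3, 2, 8, 7, 6, 5, 4, 3, 2, 8, 7, 6, 5, 4, 3, 2, 8, 7, 6, 5, 4, 3, 2, 8, 7, 6, 5, 4, 3, 2, 8, 7, 6, 5, 4, 3, 2, 8, 7, 6, 5, 4, 3, 2, 8, 7, 6, 5, 4, 3, 2, 8, 7, 6] (sel (ones 3510) ip5 12) = true := by decide +kernel

theorem rot5_12r : band (Rule.ok (2 * 9) EX RL ⟨5 :: [4, 3, 2, 8, 7, 6, 5, 4, 3, 2, 8, 7, 6, 5, 4, 3, 2, 8, 7, 6, 5, 4, 3, 2, 8, 7, 6, 5, 4, 3, 2, 8, 7, 6, 5, 4, 3, 2, 8, 7, 6, 5, 4, 3, 2, 8, 7, 6, 5, 4, 3, 2, 8, 7, 6, 5, 4, 3, 2, 8, 7, 6], [14, 12, 10], 38, true⟩) (lall (memL L) [4, 3, 2, 8, 7, 6, 5, 4, 3, 2, 8, 7, 6, 5, 4, 3, 2, 8, 7, 6, 5, 4, 3, 2, 8, 7, 6, 5, 4, 3, 2, 8, 7, 6, 5, 4, 3, 2, 8, 7, 6, 5, 4, 3, 2, 8, 7, 6, 5, 4, 3, 2, 8, 7, 6, 5, 4, 3, 2, 8, 7, 6]) = true := by decide +kernel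

theorem rot5_13 : T.rot 5 [6, 7, 8, 2, 3, 4, 5, 6, 7, 8, 2, 3, 4, 5, 6, 7, 8, 2, 3, 4, 5, 6, 7, 8, 2, 3, 4, 5, 6, 7, 8, 2, 3, 4, 5, 6, 7, 8, 2, 3, 4, 5, 6, 7, 8, 2, 3, 4, 5, 6, 7, 8, 2, 3, 4, 5, 6, 7, 8, 2, 3, 4] (sel (ones 3510) ip5 13) = true := by decide +kernel

theorem rot5_13r : band (Rule.ok (2 * 9) EX RL ⟨5 :: [6, 7, 8, 2, 3, 4, 5, 6, 7, 8, 2, 3, 4, 5, 6, 7, 8, 2, 3, 4, 5, 6, 7, 8, 2, 3, 4, 5, 6, 7, 8, 2, 3, 4, 5, 6, 7, 8, 2, 3, 4, 5, 6, 7, 8, 2, 3, 4, 5, 6, 7, 8, 2, 3, 4, 5, 6, 7, 8, 2, 3, 4], [2, 4, 6], 38, false⟩) (lall (memL L) [6, 7, 8, 2, 3, 4, 5, 6, 7, 8, 2, 3, 4, 5, 6, 7, 8, 2, 3, 4, 5, 6, 7, 8, 2, 3, 4, 5, 6, 7, 8, 2, 3, 4, 5, 6, 7, 8, 2, 3, 4, 5, 6, 7, 8, 2, 3, 4, 5, 6, 7, 8, 2, 3, 4, 5, 6, 7, 8, 2, 3, 4]) = true := by decide +kernel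

theorem rot5_14 : T.rot 5 [4, 2, 3, 4, 9, 8, 4, 6, 5, 4, 2, 3, 4, 9, 8, 4, 6, 5, 4, 2, 3, 4, 9, 8, 4, 6, 5, 4, 2, 3, 4, 9, 8, 4, 6, 5, 4, 2, 3, 4, 9, 8, 4, 6, 5, 4, 2, 3, 4, 9, 8, 4, 6, 5, 4, 2, 3, 4, 9, 8, 4, 6, 5, 4, 2, 3, 4, 9, 8, 4, 6, 5, 4, 2, 3, 4, 9, 8, 4, 6, 5, 4, 2, 3, 4, 9, 8, 4, 6] (sel (ones 3510) ip5 14) = true := by decide +kernel

theorem rot5_14r : band (Rule.ok (2 * 9) EX RL ⟨5 :: [4, 2, 3, 4, 9, 8, 4, 6, 5, 4, 2, 3, 4, 9, 8, 4, 6, 5, 4, 2, 3, 4, 9, 8, 4, 6, 5, 4, 2, 3, 4, 9, 8, 4, 6, 5, 4, 2, 3, 4, 9, 8, 4, 6, 5, 4, 2, 3, 4, 9, 8, 4, 6, 5, 4, 2, 3, 4, 9, 8, 4, 6, 5, 4, 2, 3, 4, 9, 8, 4, 6, 5, 4, 2, 3, 4, 9, 8, 4, 6, 5, 4, 2, 3, 4, 9, 8, 4, 6], [16, 14, 6, 10], 36, true⟩) (lall (memL L) [4, 2, 3, 4, 9, 8, 4, 6, 5, 4, 2, 3, 4, 9, 8, 4, 6, 5,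 4, 2, 3, 4, 9, 8, 4, 6, 5, 4, 2, 3, 4, 9, 8, 4, 6, 5, 4, 2, 3, 4, 9, 8, 4, 6, 5, 4, 2, 3, 4, 9, 8, 4, 6, 5, 4, 2, 3, 4, 9, 8, 4, 6, 5, 4, 2, 3, 4, 9, 8, 4, 6, 5, 4, 2, 3, 4, 9, 8, 4, 6, 5, 4, 2, 3, 4, 9, 8, 4, 6]) = true := by decide +kernel

theorem rot5_15 : T.rot 5 [6, 4, 8, 9, 4, 3, 2, 4, 5, 6, 4, 8, 9, 4, 3, 2, 4, 5, 6, 4, 8, 9, 4, 3, 2, 4, 5, 6, 4, 8, 9, 4, 3, 2, 4, 5, 6, 4, 8, 9, 4, 3, 2, 4, 5, 6, 4, 8, 9, 4, 3, 2, 4, 5, 6, 4, 8, 9, 4, 3, 2, 4, 5, 6, 4, 8, 9, 4, 3, 2, 4, 5, 6, 4, 8, 9, 4, 3, 2, 4, 5, 6, 4, 8, 9, 4, 3, 2, 4] (sel (ones 3510) ip5 15) = true := by decide +kernel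

theorem rot5_15r : band (Rule.ok (2 * 9) EX RL ⟨5 :: [6, 4, 8, 9, 4, 3, 2, 4, 5, 6, 4, 8, 9, 4, 3, 2, 4, 5, 6, 4, 8, 9, 4, 3, 2, 4, 5, 6, 4, 8, 9, 4, 3, 2, 4, 5, 6, 4, 8, 9, 4, 3, 2, 4, 5, 6, 4, 8, 9, 4, 3, 2, 4, 5, 6, 4, 8, 9, 4, 3, 2, 4, 5, 6, 4, 8, 9, 4, 3, 2, 4, 5, 6, 4, 8, 9, 4, 3, 2, 4, 5, 6, 4, 8, 9, 4, 3, 2, 4], [6, 4, 2, 6], 36, false⟩) (lall (memL L) [6, 4, 8, 9, 4, 3, 2, 4, 5, 6, 4, 8, 9, 4, 3, 2, 4, 5, 6, 4, 8, 9, 4, 3, 2, 4, 5, 6, 4, 8, 9, 4, 3, 2, 4, 5, 6, 4, 8, 9, 4, 3, 2, 4, 5, 6, 4, 8, 9, 4, 3, 2, 4, 5, 6, 4, 8, 9, 4, 3, 2, 4, 5, 6, 4, 8, 9, 4, 3, 2, 4, 5, 6, 4, 8, 9, 4, 3, 2, 4, 5, 6, 4, 8, 9, 4, 3, 2, 4]) = true := by decide +kernel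

theorem cov5 : T.cover 5 [(sel (ones 3510) ip5 1), (sel (ones 3510) ip5 2), (sel (ones 3510) ip5 3), (sel (ones 3510) ip5 4), (sel (ones 3510) ip5 5), (sel (ones 3510) ip5 6), (sel (ones 3510) ip5 7), (sel (ones 3510) ip5 8), (sel (ones 3510) ip5 9), (sel (ones 3510) ip5 10), (sel (ones 3510) ip5 11), (sel (ones 3510) ip5 12), (sel (ones 3510) ip5 13), (sel (ones 3510) ip5 14), (sel (ones 3510) ip5 15), 1] = true := by decide +kernel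

theorem tl5 : T.treeLt 12 5 = true := by decide +kernel

theorem rot6_1 : T.rot 6 [6] (sel (ones 3510) ip6 1) = true := by decide +kernel

theorem rot6_1r : band (Rule.ok (2 * 9) EX RL ⟨6 :: [6], [], 39, false⟩) (lall (memL L) [6]) = true := by decide +kernel

theorem rot6_2 : T.rot 6 [1, 6, 1] (sel (ones 3510) ip6 2) = true := by decide +kernel

theorem rot6_2r : band (Rule.ok (2 * 9) EX RL ⟨6 :: [1, 6, 1], [], 4, true⟩) (lall (memL L) [1, 6, 1]) = true := by decide +kernel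

theorem rot6_3 : T.rot 6 [2, 6, 2] (sel (ones 3510) ip6 3) = true := by decide +kernel

theorem rot6_3r : band (Rule.ok (2 * 9) EX RL ⟨6 :: [2, 6, 2], [], 11, true⟩) (lall (memL L) [2, 6, 2]) = true := by decide +kernel

theorem rot6_4 : T.rot 6 [3, 6, 3] (sel (ones 3510) ip6 4) = true := by decide +kernel

theorem rot6_4r : band (Rule.ok (2 * 9) EX RL ⟨6 :: [3, 6, 3], [], 17, true⟩) (lall (memL L) [3, 6, 3]) = true := by decide +kernel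

theorem rot6_5 : T.rot 6 [4, 6, 4] (sel (ones 3510) ip6 5) = true := by decide +kernel

theorem rot6_5r : band (Rule.ok (2 * 9) EX RL ⟨6 :: [4, 6, 4], [], 22, true⟩) (lall (memL L) [4, 6, 4]) = true := by decide +kernel

theorem rot6_6 : T.rot 6 [8, 6, 8] (sel (ones 3510) ip6 6) = true := by decide +kernel

theorem rot6_6r : band (Rule.ok (2 * 9) EX RL ⟨6 :: [8, 6, 8], [], 31, false⟩) (lall (memL L) [8, 6, 8]) = true := by decide +kernel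

theorem rot6_7 : T.rot 6 [9, 6, 9] (sel (ones 3510) ip6 7) = true := by decide +kernel

theorem rot6_7r : band (Rule.ok (2 * 9) EX RL ⟨6 :: [9, 6, 9], [], 32, false⟩) (lall (memL L) [9, 6, 9]) = true := by decide +kernel

theorem rot6_8 : T.rot 6 [5, 6, 5, 6, 5] (sel (ones 3510) ip6 8) = true := by decide +kernel

theorem rot6_8r : band (Rule.ok (2 * 9) EX RL ⟨6 :: [5, 6, 5, 6, 5], [], 26, true⟩) (lall (memL L) [5, 6, 5, 6, 5]) = true := by decide +kernel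

theorem rot6_9 : T.rot 6 [7, 6, 7, 6, 7] (sel (ones 3510) ip6 9) = true := by decide +kernel

theorem rot6_9r : band (Rule.ok (2 * 9) EX RL ⟨6 :: [7, 6, 7, 6, 7], [], 30, false⟩) (lall (memL L) [7, 6, 7, 6, 7]) = true := by decide +kernel

theorem rot6_10 : T.rot 6 [5, 4, 3, 2, 1, 8, 6, 5, 4, 3, 2, 1, 8, 6, 5, 4, 3, 2, 1, 8, 6, 5, 4, 3, 2, 1, 8, 6, 5, 4, 3, 2, 1, 8, 6, 5, 4, 3, 2, 1, 8, 6, 5, 4, 3, 2, 1, 8, 6, 5, 4, 3, 2, 1, 8, 6, 5, 4, 3, 2, 1, 8] (sel (ones 3510) ip6 10) = true := by decide +kernel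

theorem rot6_10r : band (Rule.ok (2 * 9) EX RL ⟨6 :: [5, 4, 3, 2, 1, 8, 6, 5, 4, 3, 2, 1, 8, 6, 5, 4, 3, 2, 1, 8, 6, 5, 4, 3, 2, 1, 8, 6, 5, 4, 3, 2, 1, 8, 6, 5, 4, 3, 2, 1, 8, 6, 5, 4, 3, 2, 1, 8, 6, 5, 4, 3, 2, 1, 8, 6, 5, 4, 3, 2, 1, 8], [14], 37, true⟩) (lall (memL L) [5, 4, 3, 2, 1, 8, 6, 5, 4, 3, 2, 1, 8, 6, 5, 4, 3, 2, 1, 8, 6, 5, 4, 3, 2, 1, 8, 6, 5, 4, 3, 2, 1, 8, 6, 5, 4, 3, 2, 1, 8, 6, 5, 4, 3, 2, 1, 8, 6, 5, 4, 3, 2, 1, 8, 6, 5, 4, 3, 2, 1, 8]) = true := by decide +kernel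

theorem rot6_11 : T.rot 6 [8, 1, 2, 3, 4, 5, 6, 8, 1, 2, 3, 4, 5, 6, 8, 1, 2, 3, 4, 5, 6, 8, 1, 2, 3, 4, 5, 6, 8, 1, 2, 3, 4, 5, 6, 8, 1, 2, 3, 4, 5, 6, 8, 1, 2, 3, 4, 5, 6, 8, 1, 2, 3, 4, 5, 6, 8, 1, 2, 3, 4, 5] (sel (ones 3510) ip6 11) = true := by decide +kernel

theorem rot6_11r : band (Rule.ok (2 * 9) EX RL ⟨6 :: [8, 1, 2, 3, 4, 5, 6, 8, 1, 2, 3, 4, 5, 6, 8, 1, 2, 3, 4, 5, 6, 8, 1, 2, 3, 4, 5, 6, 8, 1, 2, 3, 4, 5, 6, 8, 1, 2, 3, 4, 5, 6, 8, 1, 2, 3, 4, 5, 6, 8, 1, 2, 3, 4, 5, 6, 8, 1, 2, 3, 4, 5], [14, 10], 37, false⟩) (lall (memL L) [8, 1, 2, 3, 4, 5, 6, 8, 1, 2, 3, 4, 5, 6, 8, 1, 2, 3, 4, 5, 6, 8, 1, 2, 3, 4, 5, 6, 8, 1, 2, 3, 4, 5, 6, 8, 1, 2, 3, 4, 5, 6, 8, 1, 2, 3, 4, 5, 6, 8, 1, 2, 3, 4, 5, 6, 8, 1, 2, 3, 4, 5]) = true := by decide +kernel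

theorem rot6_12 : T.rot 6 [5, 4, 3, 2, 8, 7, 6, 5, 4, 3, 2, 8, 7, 6, 5, 4, 3, 2, 8, 7, 6, 5, 4, 3, 2, 8, 7, 6, 5, 4, 3, 2, 8, 7, 6, 5, 4, 3, 2, 8, 7, 6, 5, 4, 3, 2, 8, 7, 6, 5, 4, 3, 2, 8, 7, 6, 5, 4, 3, 2, 8, 7] (sel (ones 3510) ip6 12) = true := by decide +kernel

theorem rot6_12r : band (Rule.ok (2 * 9) EX RL ⟨6 :: [5, 4, 3, 2, 8, 7, 6, 5, 4, 3, 2, 8, 7, 6, 5, 4, 3, 2, 8, 7, 6, 5, 4, 3, 2, 8, 7, 6, 5, 4, 3, 2, 8, 7, 6, 5, 4, 3, 2, 8, 7, 6, 5, 4, 3, 2, 8, 7, 6, 5, 4, 3, 2, 8, 7, 6, 5, 4, 3, 2, 8, 7], [14, 12], 38, true⟩) (lall (memL L) [5, 4, 3, 2, 8, 7, 6, 5, 4, 3, 2, 8, 7, 6, 5, 4, 3, 2, 8, 7, 6, 5, 4, 3, 2, 8, 7, 6, 5, 4, 3, 2, 8, 7, 6, 5, 4, 3, 2, 8, 7, 6, 5, 4, 3, 2, 8, 7, 6, 5, 4, 3, 2, 8, 7, 6, 5, 4, 3, 2, 8, 7]) = true := by decide +kernel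

theorem rot6_13 : T.rot 6 [7, 8, 2, 3, 4, 5, 6, 7, 8, 2, 3, 4, 5, 6, 7, 8, 2, 3, 4, 5, 6, 7, 8, 2, 3, 4, 5, 6, 7, 8, 2, 3, 4, 5, 6, 7, 8, 2, 3, 4, 5, 6, 7, 8, 2, 3, 4, 5, 6, 7, 8, 2, 3, 4, 5, 6, 7, 8, 2, 3, 4, 5] (sel (ones 3510) ip6 13) = true := by decide +kernel

theorem rot6_13r : band (Rule.ok (2 * 9) EX RL ⟨6 :: [7, 8, 2, 3, 4, 5, 6, 7, 8, 2, 3, 4, 5, 6, 7, 8, 2, 3, 4, 5, 6, 7, 8, 2, 3, 4, 5, 6, 7, 8, 2, 3, 4, 5, 6, 7, 8, 2, 3, 4, 5, 6, 7, 8, 2, 3, 4, 5, 6, 7, 8, 2, 3, 4, 5, 6, 7, 8, 2, 3, 4, 5], [14, 12, 10], 38, false⟩) (lall (memL L) [7, 8, 2, 3, 4, 5, 6, 7, 8, 2, 3, 4, 5, 6, 7, 8, 2, 3, 4, 5, 6, 7, 8, 2, 3, 4, 5, 6, 7, 8, 2, 3, 4, 5, 6, 7, 8, 2, 3, 4, 5, 6, 7, 8, 2, 3, 4, 5, 6, 7, 8, 2, 3, 4, 5, 6, 7, 8, 2, 3, 4, 5]) = true := by decide +kernel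

theorem rot6_14 : T.rot 6 [5, 4, 2, 3, 4, 9, 8, 4, 6, 5, 4, 2, 3, 4, 9, 8, 4, 6, 5, 4, 2, 3, 4, 9, 8, 4, 6, 5, 4, 2, 3, 4, 9, 8, 4, 6, 5, 4, 2, 3, 4, 9, 8, 4, 6, 5, 4, 2, 3, 4, 9, 8, 4, 6, 5, 4, 2, 3, 4, 9, 8, 4, 6, 5, 4, 2, 3, 4, 9, 8, 4, 6, 5, 4, 2, 3, 4, 9, 8, 4, 6, 5, 4, 2, 3, 4, 9, 8, 4] (sel (ones 3510) ip6 14) = true := by decide +kernel

theorem rot6_14r : band (Rule.ok (2 * 9) EX RL ⟨6 :: [5, 4, 2, 3, 4, 9, 8, 4, 6, 5, 4, 2, 3, 4, 9, 8, 4, 6, 5, 4, 2, 3, 4, 9, 8, 4, 6, 5, 4, 2, 3, 4, 9, 8, 4, 6, 5, 4, 2, 3, 4, 9, 8, 4, 6, 5, 4, 2, 3, 4, 9, 8, 4, 6, 5, 4, 2, 3, 4, 9, 8, 4, 6, 5, 4, 2, 3, 4, 9, 8, 4, 6, 5, 4, 2, 3, 4, 9, 8, 4, 6, 5, 4, 2, 3, 4, 9, 8, 4], [16, 14, 6], 36, true⟩) (lall (memL L) [5, 4, 2, 3, 4, 9, 8, 4, 6, 5, 4, 2, 3, 4, 9, 8, 4, 6, 5, 4,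 2, 3, 4, 9, 8, 4, 6, 5, 4, 2, 3, 4, 9, 8, 4, 6, 5, 4, 2, 3, 4, 9, 8, 4, 6, 5, 4, 2, 3, 4, 9, 8, 4, 6, 5, 4, 2, 3, 4, 9, 8, 4, 6, 5, 4, 2, 3, 4, 9, 8, 4, 6, 5, 4, 2, 3, 4, 9, 8, 4, 6, 5, 4, 2, 3, 4, 9, 8, 4]) = true := by decide +kernel

theorem rot6_15 : T.rot 6 [4, 8, 9, 4, 3, 2, 4, 5, 6, 4, 8, 9, 4, 3, 2, 4, 5, 6, 4, 8, 9, 4, 3, 2, 4, 5, 6, 4, 8, 9, 4, 3, 2, 4, 5, 6, 4, 8, 9, 4, 3, 2, 4, 5, 6, 4, 8, 9, 4, 3, 2, 4, 5, 6, 4, 8, 9, 4, 3, 2, 4, 5, 6, 4, 8, 9, 4, 3, 2, 4, 5, 6, 4, 8, 9, 4, 3, 2, 4, 5, 6, 4, 8, 9, 4, 3, 2, 4, 5] (sel (ones 3510) ip6 15) = true := by decide +kernel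

theorem rot6_15r : band (Rule.ok (2 * 9) EX RL ⟨6 :: [4, 8, 9, 4, 3, 2, 4, 5, 6, 4, 8, 9, 4, 3, 2, 4, 5, 6, 4, 8, 9, 4, 3, 2, 4, 5, 6, 4, 8, 9, 4, 3, 2, 4, 5, 6, 4, 8, 9, 4, 3, 2, 4, 5, 6, 4, 8, 9, 4, 3, 2, 4, 5, 6, 4, 8, 9, 4, 3, 2, 4, 5, 6, 4, 8, 9, 4, 3, 2, 4, 5, 6, 4, 8, 9, 4, 3, 2, 4, 5, 6, 4, 8, 9, 4, 3, 2, 4, 5], [16, 14, 6, 10], 36, false⟩) (lall (memL L) [4, 8, 9, 4, 3, 2, 4, 5, 6, 4, 8, 9, 4, 3, 2, 4, 5, 6, 4, 8, 9, 4, 3, 2, 4, 5, 6, 4, 8, 9, 4, 3, 2, 4, 5, 6, 4, 8, 9, 4, 3, 2, 4, 5, 6, 4, 8, 9, 4, 3, 2, 4, 5, 6, 4, 8, 9, 4, 3, 2, 4, 5, 6, 4, 8, 9, 4, 3, 2, 4, 5, 6, 4, 8, 9, 4, 3, 2, 4, 5, 6, 4, 8, 9, 4, 3, 2, 4, 5]) = true := by decide +kernel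

theorem cov6 : T.cover 6 [(sel (ones 3510) ip6 1), (sel (ones 3510) ip6 2), (sel (ones 3510) ip6 3), (sel (ones 3510) ip6 4), (sel (ones 3510) ip6 5), (sel (ones 3510) ip6 6), (sel (ones 3510) ip6 7), (sel (ones 3510) ip6 8), (sel (ones 3510) ip6 9), (sel (ones 3510) ip6 10), (sel (ones 3510) ip6 11), (sel (ones 3510) ip6 12), (sel (ones 3510) ip6 13), (sel (ones 3510) ip6 14), (sel (ones 3510) ip6 15), 1] = true := by decide +kernel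

theorem tl6 : T.treeLt 12 6 = true := by decide +kernel

theorem rot7_1 : T.rot 7 [7] (sel (ones 3510) ip7 1) = true := by decide +kernel

theorem rot7_1r : band (Rule.ok (2 * 9) EX RL ⟨7 :: [7], [], 39, false⟩) (lall (memL L) [7]) = true := by decide +kernel

theorem rot7_2 : T.rot 7 [1, 7, 1] (sel (ones 3510) ip7 2) = true := by decide +kernel

theorem rot7_2r : band (Rule.ok (2 * 9) EX RL ⟨7 :: [1, 7, 1], [], 5, true⟩) (lall (memL L) [1, 7, 1]) = true := by decide +kernel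

theorem rot7_3 : T.rot 7 [2, 7, 2] (sel (ones 3510) ip7 3) = true := by decide +kernel

theorem rot7_3r : band (Rule.ok (2 * 9) EX RL ⟨7 :: [2, 7, 2], [], 12, true⟩) (lall (memL L) [2, 7, 2]) = true := by decide +kernel

theorem rot7_4 : T.rot 7 [3, 7, 3] (sel (ones 3510) ip7 4) = true := by decide +kernel

theorem rot7_4r : band (Rule.ok (2 * 9) EX RL ⟨7 :: [3, 7, 3], [], 18, true⟩) (lall (memL L) [3, 7, 3]) = true := by decide +kernel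

theorem rot7_5 : T.rot 7 [4, 7, 4] (sel (ones 3510) ip7 5) = true := by decide +kernel

theorem rot7_5r : band (Rule.ok (2 * 9) EX RL ⟨7 :: [4, 7, 4], [], 23, true⟩) (lall (memL L) [4, 7, 4]) = true := by decide +kernel

theorem rot7_6 : T.rot 7 [5, 7, 5] (sel (ones 3510) ip7 6) = true := by decide +kernel

theorem rot7_6r : band (Rule.ok (2 * 9) EX RL ⟨7 :: [5, 7, 5], [], 27, true⟩) (lall (memL L) [5, 7, 5]) = true := by decide +kernel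

theorem rot7_7 : T.rot 7 [8, 7, 8] (sel (ones 3510) ip7 7) = true := by decide +kernel

theorem rot7_7r : band (Rule.ok (2 * 9) EX RL ⟨7 :: [8, 7, 8], [], 33, false⟩) (lall (memL L) [8, 7, 8]) = true := by decide +kernel

theorem rot7_8 : T.rot 7 [9, 7, 9] (sel (ones 3510) ip7 8) = true := by decide +kernel

theorem rot7_8r : band (Rule.ok (2 * 9) EX RL ⟨7 :: [9, 7, 9], [], 34, false⟩) (lall (memL L) [9, 7, 9]) = true := by decide +kernel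

theorem rot7_9 : T.rot 7 [6, 7, 6, 7, 6] (sel (ones 3510) ip7 9) = true := by decide +kernel

theorem rot7_9r : band (Rule.ok (2 * 9) EX RL ⟨7 :: [6, 7, 6, 7, 6], [], 30, true⟩) (lall (memL L) [6, 7, 6, 7, 6]) = true := by decide +kernel

theorem rot7_10 : T.rot 7 [6, 5, 4, 3, 2, 8, 7, 6, 5, 4, 3, 2, 8, 7, 6, 5, 4, 3, 2, 8, 7, 6, 5, 4, 3, 2, 8, 7, 6, 5, 4, 3, 2, 8, 7, 6, 5, 4, 3, 2, 8, 7, 6, 5, 4, 3, 2, 8, 7, 6, 5, 4, 3, 2, 8, 7, 6, 5, 4, 3, 2, 8] (sel (ones 3510) ip7 10) = true := by decide +kernel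

theorem rot7_10r : band (Rule.ok (2 * 9) EX RL ⟨7 :: [6, 5, 4, 3, 2, 8, 7, 6, 5, 4, 3, 2, 8, 7, 6, 5, 4, 3, 2, 8, 7, 6, 5, 4, 3, 2, 8, 7, 6, 5, 4, 3, 2, 8, 7, 6, 5, 4, 3, 2, 8, 7, 6, 5, 4, 3, 2, 8, 7, 6, 5, 4, 3, 2, 8, 7, 6, 5, 4, 3, 2, 8], [14], 38, true⟩) (lall (memL L) [6, 5, 4, 3, 2, 8, 7, 6, 5, 4, 3, 2, 8, 7, 6, 5, 4, 3, 2, 8, 7, 6, 5, 4, 3, 2, 8, 7, 6, 5, 4, 3, 2, 8, 7, 6, 5, 4, 3, 2, 8, 7, 6, 5, 4, 3, 2, 8, 7, 6, 5, 4, 3, 2, 8, 7, 6, 5, 4, 3, 2, 8]) = true := by decide +kernel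

theorem rot7_11 : T.rot 7 [8, 2, 3, 4, 5, 6, 7, 8, 2, 3, 4, 5, 6, 7, 8, 2, 3, 4, 5, 6, 7, 8, 2, 3, 4, 5, 6, 7, 8, 2, 3, 4, 5, 6, 7, 8, 2, 3, 4, 5, 6, 7, 8, 2, 3, 4, 5, 6, 7, 8, 2, 3, 4, 5, 6, 7, 8, 2, 3, 4, 5, 6] (sel (ones 3510) ip7 11) = true := by decide +kernel

theorem rot7_11r : band (Rule.ok (2 * 9) EX RL ⟨7 :: [8, 2, 3, 4, 5, 6, 7, 8, 2, 3, 4, 5, 6, 7, 8, 2, 3, 4, 5, 6, 7, 8, 2, 3, 4, 5, 6, 7, 8, 2, 3, 4, 5, 6, 7, 8, 2, 3, 4, 5, 6, 7, 8, 2, 3, 4, 5, 6, 7, 8, 2, 3, 4, 5, 6, 7, 8, 2, 3, 4, 5, 6], [14, 12], 38, false⟩) (lall (memL L) [8, 2, 3, 4, 5, 6, 7, 8, 2, 3, 4, 5, 6, 7, 8, 2, 3, 4, 5, 6, 7, 8, 2, 3, 4, 5, 6, 7, 8, 2, 3, 4, 5, 6, 7, 8, 2, 3, 4, 5, 6, 7, 8, 2, 3, 4, 5, 6, 7, 8, 2, 3, 4, 5, 6, 7, 8, 2, 3, 4, 5, 6]) = true := by decide +kernel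

theorem cov7 : T.cover 7 [(sel (ones 3510) ip7 1), (sel (ones 3510) ip7 2), (sel (ones 3510) ip7 3), (sel (ones 3510) ip7 4), (sel (ones 3510) ip7 5), (sel (ones 3510) ip7 6), (sel (ones 3510) ip7 7), (sel (ones 3510) ip7 8), (sel (ones 3510) ip7 9), (sel (ones 3510) ip7 10), (sel (ones 3510) ip7 11), 1] = true := by decide +kernel

theorem tl7 : T.treeLt 12 7 = true := by decide +kernel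

theorem rot8_1 : T.rot 8 [8] (sel (ones 3510) ip8 1) = true := by decide +kernel

theorem rot8_1r : band (Rule.ok (2 * 9) EX RL ⟨8 :: [8], [], 39, false⟩) (lall (memL L) [8]) = true := by decide +kernel

theorem rot8_2 : T.rot 8 [1, 8, 1] (sel (ones 3510) ip8 2) = true := by decide +kernel

theorem rot8_2r : band (Rule.ok (2 * 9) EX RL ⟨8 :: [1, 8, 1], [], 6, true⟩) (lall (memL L) [1, 8, 1]) = true := by decide +kernel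

theorem rot8_3 : T.rot 8 [2, 8, 2] (sel (ones 3510) ip8 3) = true := by decide +kernel

theorem rot8_3r : band (Rule.ok (2 * 9) EX RL ⟨8 :: [2, 8, 2], [], 13, true⟩) (lall (memL L) [2, 8, 2]) = true := by decide +kernel

theorem rot8_4 : T.rot 8 [3, 8, 3] (sel (ones 3510) ip8 4) = true := by decide +kernel

theorem rot8_4r : band (Rule.ok (2 * 9) EX RL ⟨8 :: [3, 8, 3], [], 19, true⟩) (lall (memL L) [3, 8, 3]) = true := by decide +kernel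

theorem rot8_5 : T.rot 8 [5, 8, 5] (sel (ones 3510) ip8 5) = true := by decide +kernel

theorem rot8_5r : band (Rule.ok (2 * 9) EX RL ⟨8 :: [5, 8, 5], [], 28, true⟩) (lall (memL L) [5, 8, 5]) = true := by decide +kernel

theorem rot8_6 : T.rot 8 [6, 8, 6] (sel (ones 3510) ip8 6) = true := by decide +kernel

theorem rot8_6r : band (Rule.ok (2 * 9) EX RL ⟨8 :: [6, 8, 6], [], 31, true⟩) (lall (memL L) [6, 8, 6]) = true := by decide +kernel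

theorem rot8_7 : T.rot 8 [7, 8, 7] (sel (ones 3510) ip8 7) = true := by decide +kernel

theorem rot8_7r : band (Rule.ok (2 * 9) EX RL ⟨8 :: [7, 8, 7], [], 33, true⟩) (lall (memL L) [7, 8, 7]) = true := by decide +kernel

theorem rot8_8 : T.rot 8 [4, 8, 4, 8, 4] (sel (ones 3510) ip8 8) = true := by decide +kernel

theorem rot8_8r : band (Rule.ok (2 * 9) EX RL ⟨8 :: [4, 8, 4, 8, 4], [], 24, true⟩) (lall (memL L) [4, 8, 4, 8, 4]) = true := by decide +kernel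

theorem rot8_9 : T.rot 8 [9, 8, 9, 8, 9] (sel (ones 3510) ip8 9) = true := by decide +kernel

theorem rot8_9r : band (Rule.ok (2 * 9) EX RL ⟨8 :: [9, 8, 9, 8, 9], [], 35, false⟩) (lall (memL L) [9, 8, 9, 8, 9]) = true := by decide +kernel

theorem rot8_10 : T.rot 8 [6, 5, 4, 3, 2, 1, 8, 6, 5, 4, 3, 2, 1, 8, 6, 5, 4, 3, 2, 1, 8, 6, 5, 4, 3, 2, 1, 8, 6, 5, 4, 3, 2, 1, 8, 6, 5, 4, 3, 2, 1, 8, 6, 5, 4, 3, 2, 1, 8, 6, 5, 4, 3, 2, 1, 8, 6, 5, 4, 3, 2, 1] (sel (ones 3510) ip8 10) = true := by decide +kernel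

theorem rot8_10r : band (Rule.ok (2 * 9) EX RL ⟨8 :: [6, 5, 4, 3, 2, 1, 8, 6, 5, 4, 3, 2, 1, 8, 6, 5, 4, 3, 2, 1, 8, 6, 5, 4, 3, 2, 1, 8, 6, 5, 4, 3, 2, 1, 8, 6, 5, 4, 3, 2, 1, 8, 6, 5, 4, 3, 2, 1, 8, 6, 5, 4, 3, 2, 1, 8, 6, 5, 4, 3, 2, 1], [], 37, true⟩) (lall (memL L) [6, 5, 4, 3, 2, 1, 8, 6, 5, 4, 3, 2, 1, 8, 6, 5, 4, 3, 2, 1, 8, 6, 5, 4, 3, 2, 1, 8, 6, 5, 4, 3, 2, 1, 8, 6, 5, 4, 3, 2, 1, 8, 6, 5, 4, 3, 2, 1, 8, 6, 5, 4, 3, 2, 1, 8, 6, 5, 4, 3, 2, 1]) = true := by decide +kernel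

theorem rot8_11 : T.rot 8 [1, 2, 3, 4, 5, 6, 8, 1, 2, 3, 4, 5, 6, 8, 1, 2, 3, 4, 5, 6, 8, 1, 2, 3, 4, 5, 6, 8, 1, 2, 3, 4, 5, 6, 8, 1, 2, 3, 4, 5, 6, 8, 1, 2, 3, 4, 5, 6, 8, 1, 2, 3, 4, 5, 6, 8, 1, 2, 3, 4, 5, 6] (sel (ones 3510) ip8 11) = true := by decide +kernel

theorem rot8_11r : band (Rule.ok (2 * 9) EX RL ⟨8 :: [1, 2, 3, 4, 5, 6, 8, 1, 2, 3, 4, 5, 6, 8, 1, 2, 3, 4, 5, 6, 8, 1, 2, 3, 4, 5, 6, 8, 1, 2, 3, 4, 5, 6, 8, 1, 2, 3, 4, 5, 6, 8, 1, 2, 3, 4, 5, 6, 8, 1, 2, 3, 4, 5, 6, 8, 1, 2, 3, 4, 5, 6], [14], 37, false⟩) (lall (memL L) [1, 2, 3, 4, 5, 6, 8, 1, 2, 3, 4, 5, 6, 8, 1, 2, 3, 4, 5, 6, 8, 1, 2, 3, 4, 5, 6, 8, 1, 2, 3, 4, 5, 6, 8, 1, 2, 3, 4, 5, 6, 8, 1, 2, 3, 4, 5, 6, 8, 1, 2, 3, 4, 5, 6, 8, 1, 2, 3, 4, 5, 6]) = true := by decide +kernel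

theorem rot8_12 : T.rot 8 [7, 6, 5, 4, 3, 2, 8, 7, 6, 5, 4, 3, 2, 8, 7, 6, 5, 4, 3, 2, 8, 7, 6, 5, 4, 3, 2, 8, 7, 6, 5, 4, 3, 2, 8, 7, 6, 5, 4, 3, 2, 8, 7, 6, 5, 4, 3, 2, 8, 7, 6, 5, 4, 3, 2, 8, 7, 6, 5, 4, 3, 2] (sel (ones 3510) ip8 12) = true := by decide +kernel

theorem rot8_12r : band (Rule.ok (2 * 9) EX RL ⟨8 :: [7, 6, 5, 4, 3, 2, 8, 7, 6, 5, 4, 3, 2, 8, 7, 6, 5, 4, 3, 2, 8, 7, 6, 5, 4, 3, 2, 8, 7, 6, 5, 4, 3, 2, 8, 7, 6, 5, 4, 3, 2, 8, 7, 6, 5, 4, 3, 2, 8, 7, 6, 5, 4, 3, 2, 8, 7, 6, 5, 4, 3, 2], [], 38, true⟩) (lall (memL L) [7, 6, 5, 4, 3, 2, 8, 7, 6, 5, 4, 3, 2, 8, 7, 6, 5, 4, 3, 2, 8, 7, 6, 5, 4, 3, 2, 8, 7, 6, 5, 4, 3, 2, 8, 7, 6, 5, 4, 3, 2, 8, 7, 6, 5, 4, 3, 2, 8, 7, 6, 5, 4, 3, 2, 8, 7, 6, 5, 4, 3, 2]) = true := by decide +kernel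

theorem rot8_13 : T.rot 8 [2, 3, 4, 5, 6, 7, 8, 2, 3, 4, 5, 6, 7, 8, 2, 3, 4, 5, 6, 7, 8, 2, 3, 4, 5, 6, 7, 8, 2, 3, 4, 5, 6, 7, 8, 2, 3, 4, 5, 6, 7, 8, 2, 3, 4, 5, 6, 7, 8, 2, 3, 4, 5, 6, 7, 8, 2, 3, 4, 5, 6, 7] (sel (ones 3510) ip8 13) = true := by decide +kernel

theorem rot8_13r : band (Rule.ok (2 * 9) EX RL ⟨8 :: [2, 3, 4, 5, 6, 7, 8, 2, 3, 4, 5, 6, 7, 8, 2, 3, 4, 5, 6, 7, 8, 2, 3, 4, 5, 6, 7, 8, 2, 3, 4, 5, 6, 7, 8, 2, 3, 4, 5, 6, 7, 8, 2, 3, 4, 5, 6, 7, 8, 2, 3, 4, 5, 6, 7, 8, 2, 3, 4, 5, 6, 7], [14], 38, false⟩) (lall (memL L) [2, 3, 4, 5, 6, 7, 8, 2, 3, 4, 5, 6, 7, 8, 2, 3, 4, 5, 6, 7, 8, 2, 3, 4, 5, 6, 7, 8, 2, 3, 4, 5, 6, 7, 8, 2, 3, 4, 5, 6, 7, 8, 2, 3, 4, 5, 6, 7, 8, 2, 3, 4, 5, 6, 7, 8, 2, 3, 4, 5, 6, 7]) = true := by decide +kernel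

theorem rot8_14 : T.rot 8 [4, 6, 5, 4, 2, 3, 4, 9, 8, 4, 6, 5, 4, 2, 3, 4, 9, 8, 4, 6, 5, 4, 2, 3, 4, 9, 8, 4, 6, 5, 4, 2, 3, 4, 9, 8, 4, 6, 5, 4, 2, 3, 4, 9, 8, 4, 6, 5, 4, 2, 3, 4, 9, 8, 4, 6, 5, 4, 2, 3, 4, 9, 8, 4, 6, 5, 4, 2, 3, 4, 9, 8, 4, 6, 5, 4, 2, 3, 4, 9, 8, 4, 6, 5, 4, 2, 3, 4, 9] (sel (ones 3510) ip8 14) = true := by decide +kernel

theorem rot8_14r : band (Rule.ok (2 * 9) EX RL ⟨8 :: [4, 6, 5, 4, 2, 3, 4, 9, 8, 4, 6, 5, 4, 2, 3, 4, 9, 8, 4, 6, 5, 4, 2, 3, 4, 9, 8, 4, 6, 5, 4, 2, 3, 4, 9, 8, 4, 6, 5, 4, 2, 3, 4, 9, 8, 4, 6, 5, 4, 2, 3, 4, 9, 8, 4, 6, 5, 4, 2, 3, 4, 9, 8, 4, 6, 5, 4, 2, 3, 4, 9, 8, 4, 6, 5, 4, 2, 3, 4, 9, 8, 4, 6, 5, 4, 2, 3, 4, 9], [16], 36, true⟩) (lall (memL L) [4, 6, 5, 4, 2, 3, 4, 9, 8, 4, 6, 5, 4, 2, 3, 4, 9, 8, 4, 6, 5, 4,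 2, 3, 4, 9, 8, 4, 6, 5, 4, 2, 3, 4, 9, 8, 4, 6, 5, 4, 2, 3, 4, 9, 8, 4, 6, 5, 4, 2, 3, 4, 9, 8, 4, 6, 5, 4, 2, 3, 4, 9, 8, 4, 6, 5, 4, 2, 3, 4, 9, 8, 4, 6, 5, 4, 2, 3, 4, 9, 8, 4, 6, 5, 4, 2, 3, 4, 9]) = true := by decide +kernel

theorem rot8_15 : T.rot 8 [9, 4, 3, 2, 4, 5, 6, 4, 8, 9, 4, 3, 2, 4, 5, 6, 4, 8, 9, 4, 3, 2, 4, 5, 6, 4, 8, 9, 4, 3, 2, 4, 5, 6, 4, 8, 9, 4, 3, 2, 4, 5, 6, 4, 8, 9, 4, 3, 2, 4, 5, 6, 4, 8, 9, 4, 3, 2, 4, 5, 6, 4, 8, 9, 4, 3, 2, 4, 5, 6, 4, 8, 9, 4, 3, 2, 4, 5, 6, 4, 8, 9, 4, 3, 2, 4, 5, 6, 4] (sel (ones 3510) ip8 15) = true := by decide +kernel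

theorem rot8_15r : band (Rule.ok (2 * 9) EX RL ⟨8 :: [9, 4, 3, 2, 4, 5, 6, 4, 8, 9, 4, 3, 2, 4, 5, 6, 4, 8, 9, 4, 3, 2, 4, 5, 6, 4, 8, 9, 4, 3, 2, 4, 5, 6, 4, 8, 9, 4, 3, 2, 4, 5, 6, 4, 8, 9, 4, 3, 2, 4, 5, 6, 4, 8, 9, 4, 3, 2, 4, 5, 6, 4, 8, 9, 4, 3, 2, 4, 5, 6, 4, 8, 9, 4, 3, 2, 4, 5, 6, 4, 8, 9, 4, 3, 2, 4, 5, 6, 4], [16, 14], 36, false⟩) (lall (memL L) [9, 4, 3, 2, 4, 5, 6, 4, 8, 9, 4, 3, 2, 4, 5, 6, 4, 8, 9, 4, 3, 2, 4, 5, 6, 4, 8, 9, 4, 3, 2, 4, 5, 6, 4, 8, 9, 4, 3, 2, 4, 5, 6, 4, 8, 9, 4, 3, 2, 4, 5, 6, 4, 8, 9, 4, 3, 2, 4, 5, 6, 4, 8, 9, 4, 3, 2, 4, 5, 6, 4, 8, 9, 4, 3, 2, 4, 5, 6, 4, 8, 9, 4, 3, 2, 4, 5, 6, 4]) = true := by decide +kernel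

theorem cov8 : T.cover 8 [(sel (ones 3510) ip8 1), (sel (ones 3510) ip8 2), (sel (ones 3510) ip8 3), (sel (ones 3510) ip8 4), (sel (ones 3510) ip8 5), (sel (ones 3510) ip8 6), (sel (ones 3510) ip8 7), (sel (ones 3510) ip8 8), (sel (ones 3510) ip8 9), (sel (ones 3510) ip8 10), (sel (ones 3510) ip8 11), (sel (ones 3510) ip8 12), (sel (ones 3510) ip8 13), (sel (ones 3510) ip8 14), (sel (ones 3510) ip8 15), 1] = true := by decide +kernel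

theorem tl8 : T.treeLt 12 8 = true := by decide +kernel

theorem rot9_1 : T.rot 9 [9] (sel (ones 3510) ip9 1) = true := by decide +kernel

theorem rot9_1r : band (Rule.ok (2 * 9) EX RL ⟨9 :: [9], [], 39, false⟩) (lall (memL L) [9]) = true := by decide +kernel

theorem rot9_2 : T.rot 9 [1, 9, 1] (sel (ones 3510) ip9 2) = true := by decide +kernel

theorem rot9_2r : band (Rule.ok (2 * 9) EX RL ⟨9 :: [1, 9, 1], [], 7, true⟩) (lall (memL L) [1, 9, 1]) = true := by decide +kernel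

theorem rot9_3 : T.rot 9 [2, 9, 2] (sel (ones 3510) ip9 3) = true := by decide +kernel

theorem rot9_3r : band (Rule.ok (2 * 9) EX RL ⟨9 :: [2, 9, 2], [], 14, true⟩) (lall (memL L) [2, 9, 2]) = true := by decide +kernel

theorem rot9_4 : T.rot 9 [3, 9, 3] (sel (ones 3510) ip9 4) = true := by decide +kernel

theorem rot9_4r : band (Rule.ok (2 * 9) EX RL ⟨9 :: [3, 9, 3], [], 20, true⟩) (lall (memL L) [3, 9, 3]) = true := by decide +kernel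

theorem rot9_5 : T.rot 9 [4, 9, 4] (sel (ones 3510) ip9 5) = true := by decide +kernel

theorem rot9_5r : band (Rule.ok (2 * 9) EX RL ⟨9 :: [4, 9, 4], [], 25, true⟩) (lall (memL L) [4, 9, 4]) = true := by decide +kernel

theorem rot9_6 : T.rot 9 [5, 9, 5] (sel (ones 3510) ip9 6) = true := by decide +kernel

theorem rot9_6r : band (Rule.ok (2 * 9) EX RL ⟨9 :: [5, 9, 5], [], 29, true⟩) (lall (memL L) [5, 9, 5]) = true := by decide +kernel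

theorem rot9_7 : T.rot 9 [6, 9, 6] (sel (ones 3510) ip9 7) = true := by decide +kernel

theorem rot9_7r : band (Rule.ok (2 * 9) EX RL ⟨9 :: [6, 9, 6], [], 32, true⟩) (lall (memL L) [6, 9, 6]) = true := by decide +kernel

theorem rot9_8 : T.rot 9 [7, 9, 7] (sel (ones 3510) ip9 8) = true := by decide +kernel

theorem rot9_8r : band (Rule.ok (2 * 9) EX RL ⟨9 :: [7, 9, 7], [], 34, true⟩) (lall (memL L) [7, 9, 7]) = true := by decide +kernel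

theorem rot9_9 : T.rot 9 [8, 9, 8, 9, 8] (sel (ones 3510) ip9 9) = true := by decide +kernel

theorem rot9_9r : band (Rule.ok (2 * 9) EX RL ⟨9 :: [8, 9, 8, 9, 8], [], 35, true⟩) (lall (memL L) [8, 9, 8, 9, 8]) = true := by decide +kernel

theorem rot9_10 : T.rot 9 [8, 4, 6, 5, 4, 2, 3, 4, 9, 8, 4, 6, 5, 4, 2, 3, 4, 9, 8, 4, 6, 5, 4, 2, 3, 4, 9, 8, 4, 6, 5, 4, 2, 3, 4, 9, 8, 4, 6, 5, 4, 2, 3, 4, 9, 8, 4, 6, 5, 4, 2, 3, 4, 9, 8, 4, 6, 5, 4, 2, 3, 4, 9, 8, 4, 6, 5, 4, 2, 3, 4, 9, 8, 4, 6, 5, 4, 2, 3, 4, 9, 8, 4, 6, 5, 4, 2, 3, 4] (sel (ones 3510) ip9 10) = true := by decide +kernel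

theorem rot9_10r : band (Rule.ok (2 * 9) EX RL ⟨9 :: [8, 4, 6, 5, 4, 2, 3, 4, 9, 8, 4, 6, 5, 4, 2, 3, 4, 9, 8, 4, 6, 5, 4, 2, 3, 4, 9, 8, 4, 6, 5, 4, 2, 3, 4, 9, 8, 4, 6, 5, 4, 2, 3, 4, 9, 8, 4, 6, 5, 4, 2, 3, 4, 9, 8, 4, 6, 5, 4, 2, 3, 4, 9, 8, 4, 6, 5, 4, 2, 3, 4, 9, 8, 4, 6, 5, 4, 2, 3, 4, 9, 8, 4, 6, 5, 4, 2, 3, 4], [], 36, true⟩) (lall (memL L) [8, 4, 6, 5, 4, 2, 3, 4, 9, 8, 4, 6, 5, 4, 2, 3, 4, 9, 8, 4, 6, 5, 4, 2, 3, 4, 9, 8, 4, 6, 5, 4, 2, 3, 4, 9, 8, 4, 6, 5, 4, 2, 3, 4, 9, 8, 4, 6, 5, 4, 2, 3, 4, 9, 8, 4, 6, 5, 4, 2, 3, 4, 9, 8, 4, 6, 5, 4, 2, 3, 4, 9, 8, 4, 6, 5, 4, 2, 3, 4, 9, 8, 4, 6, 5, 4, 2, 3, 4]) = true := by decide +kernel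

theorem rot9_11 : T.rot 9 [4, 3, 2, 4, 5, 6, 4, 8, 9, 4, 3, 2, 4, 5, 6, 4, 8, 9, 4, 3, 2, 4, 5, 6, 4, 8, 9, 4, 3, 2, 4, 5, 6, 4, 8, 9, 4, 3, 2, 4, 5, 6, 4, 8, 9, 4, 3, 2, 4, 5, 6, 4, 8, 9, 4, 3, 2, 4, 5, 6, 4, 8, 9, 4, 3, 2, 4, 5, 6, 4, 8, 9, 4, 3, 2, 4, 5, 6, 4, 8, 9, 4, 3, 2, 4, 5, 6, 4, 8] (sel (ones 3510) ip9 11) = true := by decide +kernel

theorem rot9_11r : band (Rule.ok (2 * 9) EX RL ⟨9 :: [4, 3, 2, 4, 5, 6, 4, 8, 9, 4, 3, 2, 4, 5, 6, 4, 8, 9, 4, 3, 2, 4, 5, 6, 4, 8, 9, 4, 3, 2, 4, 5, 6, 4, 8, 9, 4, 3, 2, 4, 5, 6, 4, 8, 9, 4, 3, 2, 4, 5, 6, 4, 8, 9, 4, 3, 2, 4, 5, 6, 4, 8, 9, 4, 3, 2, 4, 5, 6, 4, 8, 9, 4, 3, 2, 4, 5, 6, 4, 8, 9, 4, 3, 2, 4, 5, 6, 4, 8], [16], 36, false⟩) (lall (memL L) [4, 3, 2, 4, 5, 6, 4, 8, 9, 4, 3, 2, 4, 5, 6, 4, 8, 9, 4, 3, 2, 4,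 5, 6, 4, 8, 9, 4, 3, 2, 4, 5, 6, 4, 8, 9, 4, 3, 2, 4, 5, 6, 4, 8, 9, 4, 3, 2, 4, 5, 6, 4, 8, 9, 4, 3, 2, 4, 5, 6, 4, 8, 9, 4, 3, 2, 4, 5, 6, 4, 8, 9, 4, 3, 2, 4, 5, 6, 4, 8, 9, 4, 3, 2, 4, 5, 6, 4, 8]) = true := by decide +kernel

theorem cov9 : T.cover 9 [(sel (ones 3510) ip9 1), (sel (ones 3510) ip9 2), (sel (ones 3510) ip9 3), (sel (ones 3510) ip9 4), (sel (ones 3510) ip9 5), (sel (ones 3510) ip9 6), (sel (ones 3510) ip9 7), (sel (ones 3510) ip9 8), (sel (ones 3510) ip9 9), (sel (ones 3510) ip9 10), (sel (ones 3510) ip9 11), 1] = true := by decide +kernel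

theorem tl9 : T.treeLt 12 9 = true := by decide +kernel

theorem cov10 : T.cover 10 [] = true := by decide +kernel

theorem tl10 : Nat.beq (T.let 10).tt 0 = true := by decide +kernel

theorem rot11_1 : T.rot 11 [11, 11, 11, 12, 11] (sel (ones 3510) ip11 1) = true := by decide +kernel

theorem rot11_1r : band (Rule.ok (2 * 9) EX RL ⟨11 :: [11, 11, 11, 12, 11], [], 39, false⟩) (lall (memL L) [11, 11, 11, 12, 11]) = true := by decide +kernel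

theorem rot11_2 : T.rot 11 [8, 5, 4, 3, 2, 1] (sel (ones 3510) ip11 2) = true := by decide +kernel

theorem rot11_2r : band (Rule.ok (2 * 9) EX RL ⟨11 :: [8, 5, 4, 3, 2, 1], [], 39, false⟩) (lall (memL L) [8, 5, 4, 3, 2, 1]) = true := by decide +kernel

theorem cov11 : T.cover 11 [(sel (ones 3510) ip11 1), (sel (ones 3510) ip11 2)] = true := by decide +kernel

theorem tl11 : Nat.beq (T.let 11).tt 0 = true := by decide +kernel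

theorem cov12 : T.cover 12 [1] = true := by decide +kernel

theorem tl12 : Nat.beq (T.let 12).tt 0 = true := by decide +kernel

theorem cov13 : T.cover 13 [] = true := by decide +kernel

theorem tl13 : Nat.beq (T.let 13).tt 0 = true := by decide +kernel

end Cfsg.Agent.Spor.Fi3510
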